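import Groth.Agent.QCoh.Tilde
import Groth.Agent.QCoh.Stalk
import Groth.Agent.KFlatLib.Scheme.ExtZero
import Groth.Agent.RelPC13.Generalize

/-!
# Stalks of injective modules on locally noetherian schemes are injective
-/

universe u

set_option backward.isDefEq.respectTransparency false
set_option backward.isDefEq.respectTransparency.types false
set_option linter.style.haveILetI false

open CategoryTheory CategoryTheory.Limits AlgebraicGeometry TopologicalSpace Opposite

noncomputable section

namespace Groth.Agent.PD70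

variable {R : CommRingCat.{u}}

/-- Sections of an injective module are injective over the global ring. -/
theorem exists_ext {J : (Spec (R)).Modules} [Injective J] (W : (Spec R).Opens) (I : Ideal R) (L : I →ₗ[R] Γ(J, W)) :
    ∃ v : Γ(J, W), ∀ a : I, L a = (a : R) • v := by
  have hW : W.ι ''ᵁ (W.ι ⁻¹ᵁ ⊤) = W := by rw [Scheme.Hom.image_preimage_eq_opensRange_inf]; simp
  let G := Scheme.Modules.pushforward W.ι ⋙ moduleSpecΓFunctor (R := R)
  haveI : Injective ((Scheme.Modules.restrictFunctor W.ι).obj J) :=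
    Injective.injective_of_adjoint (KFlatLib.lshAdj W.ι) J
  let adj := (tilde.adjunction (R := R)).comp (Scheme.Modules.restrictAdjunction W.ι)
  haveI : (tilde.functor R ⋙ Scheme.Modules.restrictFunctor W.ι).PreservesMonomorphisms := inferInstance
  haveI hinj : Injective (G.obj ((Scheme.Modules.restrictFunctor W.ι).obj J)) :=
    Injective.injective_of_adjoint adj _
  let T : ModuleCat.{u} R := G.obj ((Scheme.Modules.restrictFunctor W.ι).obj J)
  let res1 : Γ(J, W) →ₗ[R] T :=
    { toFun := fun x => (J.presheaf.map (eqToHom hW).op x)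
      map_add' := fun x y => map_add _ _ _
      map_smul' := fun r x => by
        rw [RingHom.id_apply, Scheme.Modules.smul_Spec_def, Scheme.Modules.map_smul, ← ConcreteCategory.comp_apply, ← Functor.map_comp]
        show _ = ((W.ι.appIso (W.ι ⁻¹ᵁ ⊤)).inv (W.ι.app ⊤ ((Scheme.ΓSpecIso R).inv r))) • (show Γ(J, W.ι ''ᵁ W.ι ⁻¹ᵁ ⊤) from _)
        congr 1
        exact (congr($(W.ι.app_appIso_inv ⊤) _)).symm }
  haveI : Injective T := hinj
  haveI hTi : Module.Injective R T := Module.injective_module_of_injective_object R T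
  obtain ⟨h, hh⟩ := Module.Baer.of_injective hTi I (res1.comp L)
  let x : T := h (1 : R)
  refine ⟨J.presheaf.map (eqToHom hW.symm).op x, fun a => ?_⟩
  have h1 : res1 (L a) = (a : R) • x := by
    rw [← LinearMap.map_smul, smul_eq_mul, mul_one]
    exact (hh a.1 a.2).symm
  have hr : Function.Bijective res1 := ConcreteCategory.bijective_of_isIso (J.presheaf.map (eqToHom hW).op)
  refine hr.1 (h1.trans ?_)
  rw [LinearMap.map_smul]
  congr 1
  show x = (J.presheaf.map (eqToHom hW.symm).op ≫ J.presheaf.map (eqToHom hW).op) x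
  rw [← Functor.map_comp, ← op_comp, eqToHom_trans, eqToHom_refl, op_id, CategoryTheory.Functor.map_id]
  rfl

/-- The map to the local ring. -/
abbrev toSt (p : ↥(Spec R)) : R →+* (Spec R).presheaf.stalk p :=
  ((Scheme.ΓSpecIso R).inv ≫ (Spec R).presheaf.germ ⊤ p trivial).hom

theorem germ_smul_spec (M : (Spec R).Modules) {U : (Spec R).Opens} {p : ↥(Spec R)} (hp : p ∈ U) (r : R) (x : Γ(M, U)) :
    M.presheaf.germ U p hp (r • x) = toSt p r • M.presheaf.germ U p hp x := by
  rw [Scheme.Modules.smul_Spec_def, QCoh.germ_smul']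
  congr 1
  exact TopCat.Presheaf.germ_res_apply _ _ _ _ _

theorem exists_common {X : Scheme.{u}} (M : X.Modules) (p : X) {n : ℕ} (t : Fin n → M.presheaf.stalk p) :
    ∃ (W : X.Opens) (hp : p ∈ W), ∀ i, ∃ s : Γ(M, W), M.presheaf.germ W p hp s = t i := by
  choose V hV s hs using fun i => TopCat.Presheaf.exists_germ_eq M.presheaf (t i)
  refine ⟨Finset.univ.inf V, ?_, fun i => ⟨M.presheaf.map (homOfLE (Finset.inf_le (Finset.mem_univ i))).op (s i), ?_⟩⟩
  · exact Finset.inf_induction (p := fun U : X.Opens => p ∈ U) trivial (fun a ha b hb => ⟨ha, hb⟩) (fun i _ => hV i)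
  · rw [TopCat.Presheaf.germ_res_apply]; exact hs i

theorem exists_res_eq_zero {X : Scheme.{u}} (M : X.Modules) {p : X} {W : X.Opens} (hp : p ∈ W) (S : Finset Γ(M, W))
    (h : ∀ x ∈ S, M.presheaf.germ W p hp x = 0) :
    ∃ (V : X.Opens) (i : V ⟶ W), p ∈ V ∧ ∀ x ∈ S, M.presheaf.map i.op x = 0 := by
  classical
  induction S using Finset.induction with
  | empty => exact ⟨W, 𝟙 _, hp, by simp⟩
  | insert a S _ ih =>
    obtain ⟨V, i, hV, h0⟩ := ih fun x hx => h x (Finset.mem_insert_of_mem hx)
    obtain ⟨V', hV', j, j', hj⟩ := TopCat.Presheaf.germ_eq M.presheaf p hp hp a 0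
      ((h a (Finset.mem_insert_self _ _)).trans (map_zero _).symm)
    rw [map_zero] at hj
    refine ⟨V ⊓ V', Opens.infLELeft _ _ ≫ i, ⟨hV, hV'⟩, fun x hx => ?_⟩
    rcases Finset.mem_insert.1 hx with rfl | hx
    · rw [Subsingleton.elim (Opens.infLELeft V V' ≫ i) (Opens.infLERight V V' ≫ j), op_comp, Functor.map_comp,
        ConcreteCategory.comp_apply, hj, map_zero]
    · rw [op_comp, Functor.map_comp, ConcreteCategory.comp_apply, h0 x hx, map_zero]

theorem injective_stalk_spec [IsNoetherianRing R] (J : (Spec R).Modules) [Injective J] (p : ↥(Spec R)) :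
    Injective ((DerSch.stalkFunctor (Spec R) p).obj J) := by
  classical
  let A := (Spec R).presheaf.stalk p
  suffices Module.Injective A (J.presheaf.stalk p) from
    Module.injective_object_of_injective_module A (J.presheaf.stalk p)
  refine Module.Baer.injective fun I f => ?_
  obtain ⟨S, hS⟩ : (I.comap (toSt p)).FG := IsNoetherian.noetherian _
  let n := S.card
  let a : Fin n → R := fun i => (S.equivFin.symm i).1
  have ha : ∀ i, toSt p (a i) ∈ I := fun i => by
    have : a i ∈ I.comap (toSt p) := hS ▸ Submodule.subset_span (S.equivFin.symm i).2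
    exact this
  obtain ⟨W, hpW, hs⟩ := exists_common J p fun i => f ⟨_, ha i⟩
  choose s hs using hs
  let π := Fintype.linearCombination R a
  let ν := Fintype.linearCombination R s
  have hν : ∀ c : Fin n → R, (hmem : toSt p (π c) ∈ I) → J.presheaf.germ W p hpW (ν c) = f ⟨_, hmem⟩ := fun c hmem => by
    have e : (⟨_, hmem⟩ : I) = ∑ i, toSt p (c i) • (⟨_, ha i⟩ : I) := Subtype.ext (by
      simp [π, Fintype.linearCombination_apply, map_sum, map_mul])
    rw [e, map_sum]
    simp only [ν, Fintype.linearCombination_apply, map_sum, germ_smul_spec, map_smul, hs]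
  obtain ⟨T, hT⟩ : (LinearMap.ker π).FG := IsNoetherian.noetherian _
  obtain ⟨V, i, hpV, hV⟩ := exists_res_eq_zero J hpW (T.image ν) fun x hx => by
    obtain ⟨c, hc, rfl⟩ := Finset.mem_image.1 hx
    have hc0 : π c = 0 := (hT ▸ Submodule.subset_span hc : c ∈ LinearMap.ker π)
    have hmem : toSt p (π c) ∈ I := by rw [hc0, map_zero]; exact zero_mem _
    rw [hν c hmem, show (⟨_, hmem⟩ : I) = 0 from Subtype.ext ((congrArg (toSt p) hc0).trans (map_zero _)), map_zero]
  let res : Γ(J, W) →ₗ[R] Γ(J, V) :=
    { toFun := fun x => J.presheaf.map i.op x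
      map_add' := fun x y => map_add _ _ _
      map_smul' := fun r x => Scheme.Modules.map_smul_Spec i.op r x }
  let ν' := res ∘ₗ ν
  have hker : LinearMap.ker π ≤ LinearMap.ker ν' := by
    rw [← hT, Submodule.span_le]
    exact fun c hc => hV _ (Finset.mem_image_of_mem ν hc)
  obtain ⟨v, hv⟩ := exists_ext V (LinearMap.range π)
    (((LinearMap.ker π).liftQ ν' hker) ∘ₗ π.quotKerEquivRange.symm.toLinearMap)
  refine ⟨LinearMap.toSpanSingleton A _ (J.presheaf.germ V p hpV v), fun x hx => ?_⟩
  letI alg : Algebra R A := (toSt p).toAlgebra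
  haveI : IsLocalization.AtPrime A p.asIdeal := StructureSheaf.IsLocalization.to_stalk R p
  obtain ⟨⟨r, t⟩, hrt⟩ := IsLocalization.surj p.asIdeal.primeCompl (S := A) x
  have hu : IsUnit (toSt p t.1) := IsLocalization.map_units A t
  have hr : toSt p r ∈ I := hrt ▸ I.mul_mem_right _ hx
  obtain ⟨c, rfl⟩ : r ∈ LinearMap.range π := by
    rw [Fintype.range_linearCombination]
    have : r ∈ Submodule.span R (S : Set R) := (congrArg (r ∈ ·) hS).mpr hr
    refine Submodule.span_mono ?_ this
    exact fun y hy => ⟨S.equivFin ⟨y, hy⟩, by simp [a]⟩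
  refine hu.smul_left_cancel.1 ?_
  show toSt p t.1 • (x • J.presheaf.germ V p hpV v) = toSt p t.1 • f ⟨x, hx⟩
  rw [smul_smul, ← f.map_smul, mul_comm, show x * toSt p t.1 = toSt p (π c) from hrt, ← germ_smul_spec,
    ← hv ⟨π c, c, rfl⟩]
  have e : (toSt p t.1 • ⟨x, hx⟩ : I) = ⟨toSt p (π c), hr⟩ := Subtype.ext ((mul_comm _ _).trans hrt)
  rw [e, ← hν c hr, show ((LinearMap.ker π).liftQ ν' hker ∘ₗ π.quotKerEquivRange.symm.toLinearMap) ⟨π c, c, rfl⟩ = ν' c from ?_]
  · exact TopCat.Presheaf.germ_res_apply J.presheaf i p hpV (ν c)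
  · show (LinearMap.ker π).liftQ ν' hker (π.quotKerEquivRange.symm _) = _
    rw [LinearMap.quotKerEquivRange_symm_apply_image]
    rfl

/-- On a locally noetherian scheme, stalks of injective modules are injective. -/
theorem injective_stalk {X : Scheme.{u}} [IsLocallyNoetherian X] (J : X.Modules) [Injective J] (x : X) :
    Injective ((DerSch.stalkFunctor X x).obj J) := by
  obtain ⟨_, ⟨U, hU, rfl⟩, hxU, -⟩ := X.isBasis_affineOpens.exists_subset_of_mem_open (Set.mem_univ x) isOpen_univ
  haveI : IsNoetherianRing Γ(X, U) := IsLocallyNoetherian.component_noetherian ⟨U, hU⟩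
  obtain ⟨p, rfl⟩ : x ∈ Set.range hU.fromSpec.base := by rw [hU.range_fromSpec]; exact hxU
  let j := hU.fromSpec
  haveI : Injective ((Scheme.Modules.restrictFunctor j).obj J) :=
    Injective.injective_of_adjoint (KFlatLib.lshAdj j) J
  haveI := injective_stalk_spec ((Scheme.Modules.restrictFunctor j).obj J) p
  let e := (ModuleCat.restrictScalarsEquivalenceOfRingEquiv
    (RingEquiv.ofBijective (j.stalkMap p).hom (ConcreteCategory.bijective_of_isIso (j.stalkMap p))))
  refine Injective.of_iso ((RelPC13.stalkRestrictModIso' j p).app J) ?_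
  exact Injective.injective_of_adjoint e.symm.toAdjunction ((DerSch.stalkFunctor (Spec _) p).obj ((Scheme.Modules.restrictFunctor j).obj J))

theorem preservesInjectiveObjects_stalk {X : Scheme.{u}} [IsLocallyNoetherian X] (x : X) :
    (DerSch.stalkFunctor X x).PreservesInjectiveObjects :=
  ⟨fun {J} hJ => @injective_stalk _ _ J hJ x⟩

end Groth.Agent.PD70
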