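import Groth.Agent.PD70.SheafHomStalk
import Groth.Agent.PD70.StalkInj
import Groth.Agent.SiteBase.DerivedPrecomp
import Groth.Agent.SpObjSS.SiteLeray
import Groth.Agent.QCoh.Support
import Groth.Agent.AVPhi.Leray

/-!
# Stalks of `extSh` are the `Ext` modules of the stalks
-/

universe u

set_option backward.isDefEq.respectTransparency false
set_option backward.isDefEq.respectTransparency.types false
set_option linter.style.haveILetI false

open CategoryTheory CategoryTheory.Limits AlgebraicGeometry TopologicalSpace Opposite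

noncomputable section

namespace Groth.Agent.PD70

variable {X : Scheme.{u}}

/-- Evaluation at a stalk, as an additive equivalence with the morphisms of the stalk modules. -/
def evalStalkEquiv {M : X.Modules} (hM : CohB1.IsFP M) (G : X.Modules) (x : X) :
    (RefHull.homSh M G).presheaf.stalk x ≃+ ((DerSch.stalkFunctor X x).obj M ⟶ (DerSch.stalkFunctor X x).obj G) :=
  (AddEquiv.ofBijective (RefHull.evalStalk M G x).toAddMonoidHom (RefX.evalStalk_bijective (G := G) hM x)).trans
    (ModuleCat.homLinearEquiv (S := X.presheaf.stalk x) (M := (DerSch.stalkFunctor X x).obj M)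
      (N := (DerSch.stalkFunctor X x).obj G)).symm.toAddEquiv

variable (M : X.Modules) [ModSite.HasSheafHom (O := X.sheaf) M] (x : X)

/-- The stalk functor on modules on the site. -/
abbrev stalkS : ModSite.Mod X.sheaf ⥤ ModuleCat.{u} (X.presheaf.stalk x) := DerSch.stalkFunctor X x

/-- The stalk of the internal Hom is the Hom of the stalks. -/
def stalkHomIso (hM : CohB1.IsFP M) :
    ModSite.sheafHom (O := X.sheaf) M ⋙ stalkS x ⋙ forget₂ (ModuleCat (X.presheaf.stalk x)) AddCommGrpCat.{u} ≅
      stalkS x ⋙ SpObjSS.homFrom ((DerSch.stalkFunctor X x).obj M) :=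
  Functor.isoWhiskerRight (sheafHomIsoHomFun M) _ ≪≫
    NatIso.ofComponents (fun G => (evalStalkEquiv hM G x).toAddCommGrpIso) fun {G G'} g => by
      refine AddCommGrpCat.ext fun θ => ModuleCat.hom_ext ?_
      exact BunLib68.evalStalk_map g x θ

/-- The vanishing of the stalk of `extSh` is the vanishing of the `Ext` of the stalks. -/
theorem isZero_stalk_extSh_iff [IsLocallyNoetherian X] [HasInjectiveResolutions (ModSite.Mod X.sheaf)]
    (hM : CohB1.IsFP M) (q : ℕ) (G : X.Modules) :
    IsZero ((DerSch.stalkFunctor X x).obj ((ModSite.extSh (O := X.sheaf) M q).obj G)) ↔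
      Subsingleton (Abelian.Ext ((DerSch.stalkFunctor X x).obj M) ((DerSch.stalkFunctor X x).obj G) q) := by
  haveI : EnoughInjectives (ModSite.Mod X.sheaf) := SpObjSS.enoughInjectives_of_hasInjectiveResolutions
  haveI : PreservesFiniteLimits (stalkS x) := inferInstanceAs (PreservesFiniteLimits (DerSch.stalkFunctor X x))
  haveI : PreservesFiniteColimits (stalkS x) := inferInstanceAs (PreservesFiniteColimits (DerSch.stalkFunctor X x))
  haveI : (stalkS x).Additive := Functor.additive_of_preserves_binary_products _
  haveI : (stalkS x).PreservesInjectiveObjects := preservesInjectiveObjects_stalk x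
  let A := forget₂ (ModuleCat (X.presheaf.stalk x)) AddCommGrpCat.{u}
  let P := (DerSch.stalkFunctor X x).obj M
  let e := (SiteBase.rightDerivedCompIso (ModSite.sheafHom (O := X.sheaf) M) (stalkS x ⋙ A) q).symm ≪≫
    SiteBase.rightDerivedCongr (stalkHomIso M x hM) q ≪≫
    SiteBase.rightDerivedPrecompIso (stalkS x) (SpObjSS.homFrom P) q
  let e' : A.obj ((DerSch.stalkFunctor X x).obj ((ModSite.extSh (O := X.sheaf) M q).obj G)) ≅
      AddCommGrpCat.of (Abelian.Ext P ((DerSch.stalkFunctor X x).obj G) q) :=
    e.app G ≪≫ SpObjSS.rightDerivedHomFromIso P q _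
  rw [ModuleCat.isZero_iff_subsingleton]
  exact e'.addCommGroupIsoToAddEquiv.toEquiv.subsingleton_congr

/-- A module with zero stalks is zero. -/
theorem isZero_extSh_iff [IsLocallyNoetherian X] [HasInjectiveResolutions (ModSite.Mod X.sheaf)]
    (hM : CohB1.IsFP M) (q : ℕ) (G : X.Modules) :
    IsZero ((ModSite.extSh (O := X.sheaf) M q).obj G) ↔
      ∀ x, Subsingleton (Abelian.Ext ((DerSch.stalkFunctor X x).obj M) ((DerSch.stalkFunctor X x).obj G) q) := by
  simp only [← isZero_stalk_extSh_iff M _ hM q G]
  exact ⟨fun h x => (DerSch.stalkFunctor X x).map_isZero h,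
    fun h => AVPhi.isZero_of_stalks (M := (ModSite.extSh (O := X.sheaf) M q).obj G) fun x =>
      ModuleCat.subsingleton_of_isZero (h x)⟩

end Groth.Agent.PD70
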