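import Groth.Agent.BunLib68.Bundle
import Groth.Agent.Lib.RegDescent
import Groth.Agent.Lib.PnDualExtPn
import Groth.Agent.H23.TwistAmple
import Groth.Agent.AmpleX.Generated
import Groth.Agent.RefX.Reflexive

/-!
# The sheaf Hom into twisting sheaves on projective space
-/

universe u

set_option backward.isDefEq.respectTransparency false
set_option backward.isDefEq.respectTransparency.types false
set_option linter.style.haveILetI false
set_option maxHeartbeats 1000000

open CategoryTheory CategoryTheory.Limits AlgebraicGeometry TopologicalSpace Opposite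
open Groth.Agent.BunLib68

noncomputable section

namespace Groth.Agent.PD70

theorem dualTensorHom_bijective {R M N : Type u} [CommRing R] [AddCommGroup M] [Module R M] [AddCommGroup N]
    [Module R N] [Module.Free R N] [Module.Finite R N] : Function.Bijective (dualTensorHom R M N) := by
  classical
  let b := Module.Free.chooseBasis R N
  let inv : (M →ₗ[R] N) →ₗ[R] TensorProduct R (Module.Dual R M) N :=
    ∑ i, ((TensorProduct.mk R _ N).flip (b i)).comp (LinearMap.llcomp R M N R (b.coord i))
  have h1 : ∀ f, dualTensorHom R M N (inv f) = f := fun f => LinearMap.ext fun m => by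
    simp only [inv, LinearMap.sum_apply, map_sum, LinearMap.comp_apply, LinearMap.flip_apply,
      TensorProduct.mk_apply, LinearMap.llcomp_apply, dualTensorHom_apply]
    exact b.sum_repr (f m)
  have h2 : ∀ t, inv (dualTensorHom R M N t) = t := fun t => by
    induction t using TensorProduct.induction_on with
    | zero => simp
    | add a c ha hc => rw [map_add, map_add, ha, hc]
    | tmul θ v =>
      have h : ∀ i, (b.coord i).comp (dualTensorHom R M N (θ ⊗ₜ v)) = b.coord i v • θ := fun i =>
        LinearMap.ext fun m => by simp [mul_comm]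
      simp only [inv, LinearMap.sum_apply, LinearMap.comp_apply, LinearMap.flip_apply,
        TensorProduct.mk_apply, LinearMap.llcomp_apply]
      conv_rhs => rw [← b.sum_repr v, TensorProduct.tmul_sum]
      refine Finset.sum_congr rfl fun i _ => ?_
      rw [show LinearMap.llcomp R M N R (b.coord i) (dualTensorHom R M N (θ ⊗ₜ v)) = b.coord i v • θ from h i, TensorProduct.smul_tmul]
      rfl
  exact ⟨Function.LeftInverse.injective h2, Function.RightInverse.surjective h1⟩

variable {X : Scheme.{u}} {F G : X.Modules}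

/-- `dual F ⊗ G ≅ Hom(F, G)` for `F` finitely presented and `G` locally free. -/
theorem isIso_theta (hF : CohB1.IsFP F) (hG : FlatMod.IsFinLocFree G) : IsIso (theta F G) := by
  refine ZClosLib.isIso_of_stalkMap_bijective _ fun x => ?_
  show Function.Bijective (RefHull.stalkMapₗ (theta F G) x)
  haveI := QCoh.free_stalk_of_isFinLocFree hG x
  haveI := BunLib68.finite_stalk hG x
  have heval := RefX.evalStalk_bijective (G := G) hF x
  let e₁ := (KFlatLib.stalkTensorIso x (RefHull.dual F) G).toLinearEquiv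
  let e₂ := TensorProduct.congr (RefX.dualStalk hF x)
    (LinearEquiv.refl (X.presheaf.stalk x) (G.presheaf.stalk x))
  let e₃ := LinearEquiv.ofBijective _ (dualTensorHom_bijective (R := X.presheaf.stalk x)
    (M := F.presheaf.stalk x) (N := G.presheaf.stalk x))
  have key : ∀ t, RefHull.evalStalk F G x (RefHull.stalkMapₗ (theta F G) x (e₁ t)) = e₃ (e₂ t) := by
    intro t
    induction t using TensorProduct.induction_on with
    | zero => simp only [map_zero]
    | add a b ha hb => simp only [map_add, ha, hb]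
    | tmul a b =>
      obtain ⟨U, hx, θ, rfl⟩ := TopCat.Presheaf.exists_germ_eq (RefHull.dual F).presheaf a
      obtain ⟨U', hx', n, rfl⟩ := TopCat.Presheaf.exists_germ_eq G.presheaf b
      let V := U ⊓ U'
      rw [← RefX.germ_res (RefHull.dual F) (inf_le_left : V ≤ U) ⟨hx, hx'⟩,
        ← RefX.germ_res G (inf_le_right : V ≤ U') ⟨hx, hx'⟩]
      have h1 := KFlatLib.stalkTensorIso_gm (RefHull.dual F) G V (x := x) ⟨hx, hx'⟩
        (AModX.res (RefHull.dual F) (inf_le_left : V ≤ U) θ) (AModX.res G (inf_le_right : V ≤ U') n)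
      refine (congrArg (fun w => RefHull.evalStalk F G x (RefHull.stalkMapₗ (theta F G) x w)) h1).trans ?_
      change RefHull.evalStalk F G x (RefHull.stalkMapₗ (theta F G) x
        ((CohB1.tensorMod (RefHull.dual F) G).presheaf.germ V x ⟨hx, hx'⟩
          (SecTwist.tmul (RefHull.dual F) G V (AModX.res (RefHull.dual F) (inf_le_left : V ≤ U) θ)
            (AModX.res G (inf_le_right : V ≤ U') n)))) = _
      rw [RefHull.stalkMapₗ_germ, RefHull.evalStalk_germ]
      refine (congrArg (fun s : Γ(RefHull.homSh F G, V) => s.1 ⟨x, ⟨hx, hx'⟩⟩)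
        (H23.TensorDesc.desc_tmul (thetaBilin F G) V _ _)).trans ?_
      refine LinearMap.ext fun v => ?_
      refine (thetaFun_val V _ _ ⟨x, ⟨hx, hx'⟩⟩ v).trans ?_
      rw [TensorProduct.congr_tmul]
      refine Eq.trans ?_ (dualTensorHom_apply _ _ _).symm
      refine congrArg₂ (· • ·) ?_ rfl
      refine congrArg (RefX.unitStalk x).symm ?_
      exact (LinearMap.congr_fun (RefHull.evalStalk_germ (F := F) (G := Coh.structureModule X) x
        (U := V) ⟨hx, hx'⟩ _) v).symm
  have hb : Function.Bijective fun t => RefHull.evalStalk F G x (RefHull.stalkMapₗ (theta F G) x (e₁ t)) := by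
    simp only [key]
    exact e₃.bijective.comp e₂.bijective
  have h2 : Function.Bijective ((RefHull.evalStalk F G x) ∘ (RefHull.stalkMapₗ (theta F G) x)) :=
    (Function.Bijective.of_comp_iff _ e₁.bijective).1 hb
  exact (Function.Bijective.of_comp_iff' heval _).1 h2

variable {k : Type u} [Field k] {n : ℕ}

/-- The twisting sheaves of `P^n`. -/
abbrev O (n : ℕ) (k : Type u) [Field k] (d : ℤ) : (CohB1.ProjSpace n k).Modules := Twist.twistProjSpace n k d

instance isLocallyNoetherian_pn : IsLocallyNoetherian (CohB1.ProjSpace n k) :=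
  haveI hP : IsNoetherian (Proj (CohB1.polyGrading n k)) := Proj16.isNoetherian_proj _
  inferInstanceAs (IsLocallyNoetherian (Proj (CohB1.polyGrading n k)))

instance isLocallyNoetherian_proj : IsLocallyNoetherian (Proj (CohB1.polyGrading n k)) :=
  isLocallyNoetherian_pn

theorem isFinLocFree_O (d : ℤ) : FlatMod.IsFinLocFree (O n k d) :=
  H23.PullPush.isFinLocFree_of_isInvertible
    (PnCoh.Finite.isInvertible_twist (PnDual.coordsR k n) PnDual.coordsR_mem PnDual.coordsR_cover d)

theorem isCoh_O (d : ℤ) : Coh.IsCoh (O n k d) :=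
  QCoh.isCoh_iff_isFP.2 (QCoh.isFP_of_isFinLocFree (isFinLocFree_O d))

theorem eventually_generated_proj {R A κ : Type u} [CommRing R] [CommRing A] [Algebra R A]
    (𝒜 : ℕ → Submodule R A) [GradedAlgebra 𝒜] (g : κ → A) (hg : ∀ j, g j ∈ 𝒜 1)
    (hcov : ⨆ j, PnCoh.Finite.D 𝒜 (g j) = ⊤) [CompactSpace (Proj 𝒜)]
    {F : (Proj 𝒜).Modules} (hF : Coh.IsQCoh F) (hft : CohB1.IsFT F) :
    ∃ d₀ : ℤ, ∀ d, d₀ ≤ d → Curv2.IsGloballyGenerated (CohB1.tensorMod F (Twist.twist 𝒜 d)) := by
  have hcov' : (⨆ a : 𝒜 1, Proj.basicOpen 𝒜 (a : A)) = ⊤ := top_le_iff.1 fun x _ => by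
    obtain ⟨j, hj⟩ := Opens.mem_iSup.1 (hcov.ge (trivial : x ∈ (⊤ : (Proj 𝒜).Opens)))
    exact Opens.mem_iSup.2 ⟨⟨g j, hg j⟩, hj⟩
  have hA := H23.TwistAmple.isAmple hcov' (n := 1) Nat.one_pos
  rw [Nat.cast_one] at hA
  obtain ⟨n₀, h⟩ := AmpleX.eventually_isGloballyGenerated hA hF hft
  refine ⟨n₀, fun d hd => ?_⟩
  lift d to ℕ using (Int.natCast_nonneg n₀).trans hd
  obtain ⟨e⟩ := PnCoh.Finite.twist_tensorPow_iso g hg hcov d
  obtain ⟨i⟩ := H23.PicMul.cl_eq_iff.1 (show PicF.cl (CohB1.tensorMod F (CohB1.tensorPow (Twist.twist 𝒜 (1 : ℤ)) d)) =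
      PicF.cl (CohB1.tensorMod F (Twist.twist 𝒜 (d : ℤ))) by
    rw [H23.PicMul.cl_tensor, H23.PicMul.cl_tensor, H23.PicMul.cl_eq_iff.2 ⟨e⟩])
  exact AmpleX.isGloballyGenerated_of_iso i (h d (by exact_mod_cast hd))

/-- Large twists of coherent modules are globally generated. -/
theorem eventually_generated {F : (CohB1.ProjSpace n k).Modules} (hF : Coh.IsCoh F) :
    ∃ d₀ : ℤ, ∀ d, d₀ ≤ d → Curv2.IsGloballyGenerated (CohB1.tensorMod F (O n k d)) := by
  haveI hP : IsNoetherian (Proj (CohB1.polyGrading n k)) := Proj16.isNoetherian_proj _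
  exact eventually_generated_proj (CohB1.polyGrading n k) (PnDual.coordsR k n) PnDual.coordsR_mem
    PnDual.coordsR_cover (F := F) hF.1 hF.2

variable {F : (CohB1.ProjSpace n k).Modules}

theorem isCoh_homSh_O (hF : Coh.IsCoh F) (d : ℤ) : Coh.IsCoh (RefHull.homSh F (O n k d)) :=
  RefX.isCoh_homSh hF (isCoh_O d)

/-- `Hom(F, O(d))` is generated by global sections for large `d`. -/
theorem eventually_generated_homSh (hF : Coh.IsCoh F) :
    ∃ d₀ : ℤ, ∀ d, d₀ ≤ d → Curv2.IsGloballyGenerated (RefHull.homSh F (O n k d)) := by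
  obtain ⟨d₀, h⟩ := eventually_generated (RefX.isCoh_dual hF)
  refine ⟨d₀, fun d hd => ?_⟩
  haveI := isIso_theta (QCoh.isCoh_iff_isFP.1 hF) (isFinLocFree_O (k := k) (n := n) d)
  exact AmpleX.isGloballyGenerated_of_iso (asIso (theta F (O n k d))) (h d hd)

/-- The higher cohomology of `Hom(F, O(d))` vanishes for large `d`. -/
theorem eventually_HH_homSh (hF : Coh.IsCoh F) {i : ℕ} (hi : 0 < i) :
    ∃ d₀ : ℤ, ∀ d, d₀ ≤ d → Subsingleton (Coh.HH (CohB1.ProjSpace n k) (RefHull.homSh F (O n k d)) i) := by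
  obtain ⟨d₀, h⟩ := RegDescent.exists_vanishing_twF (RefX.isCoh_dual hF) i hi
  refine ⟨d₀, fun d hd => ?_⟩
  haveI := isIso_theta (QCoh.isCoh_iff_isFP.1 hF) (isFinLocFree_O (k := k) (n := n) d)
  exact QCoh.subsingleton_HH_of_iso (asIso (theta F (O n k d))) i (h d hd)

end Groth.Agent.PD70
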