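import Groth.Agent.PD70.Criterion
import Groth.Agent.Pic13Lib.Twist
import Groth.Agent.Alg6.LocLoc
import Groth.Agent.KFlatLib.Scheme.ClosedPush
import Groth.Agent.QCoh.AffineCohom
import Groth.Agent.FlatLoc6.NormFlat
import Groth.Agent.CurveCohLib.SubBundle
import Groth.Agent.KFlatLib.Perfect.LocFree
import Groth.Agent.LC.ExtDim

/-!
# Vanishing of the cohomology of negative twists on a closed subscheme of projective space
-/

universe u

set_option backward.isDefEq.respectTransparency false
set_option backward.isDefEq.respectTransparency.types false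
set_option linter.style.haveILetI false
set_option maxHeartbeats 1000000

open CategoryTheory CategoryTheory.Limits AlgebraicGeometry TopologicalSpace Opposite

noncomputable section

namespace Groth.Agent.PD70

/-- A closed point in the image of a closed immersion comes from a closed point. -/
theorem isClosed_singleton_iff {X Y : Scheme.{u}} (f : X ⟶ Y) [IsClosedImmersion f] (x : X) :
    IsClosed ({f x} : Set ↥Y) ↔ IsClosed ({x} : Set ↥X) := by
  rw [f.isClosedEmbedding.isClosed_iff_image_isClosed, Set.image_singleton]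

/-- Depth of a direct image along a closed immersion, at a point of the image. -/
theorem depth_push {X Y : Scheme.{u}} (f : X ⟶ Y) [IsClosedImmersion f] (M : X.Modules) (x : X) :
    LocCoh.depth (Y.presheaf.stalk (f x)) (((Scheme.Modules.pushforward f).obj M).presheaf.stalk (f x)) =
      LocCoh.depth (X.presheaf.stalk x) (M.presheaf.stalk x) := by
  haveI := KFlatLib.isIso_stalkPushforward_closed f M x
  let e : ((Coh.push f).obj M).presheaf.stalk (f x) ≃+ M.presheaf.stalk x :=
    (asIso (TopCat.Presheaf.stalkPushforward Ab.{u} f.base M.presheaf x)).addCommGroupIsoToAddEquiv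
  have he : ∀ (U : Y.Opens) (hU : f x ∈ U) (v : Γ(M, f ⁻¹ᵁ U)),
      e (((Coh.push f).obj M).presheaf.germ U (f x) hU v) = M.presheaf.germ (f ⁻¹ᵁ U) x hU v := fun U hU v =>
    congrArg (fun φ => φ v) (TopCat.Presheaf.stalkPushforward_germ Ab.{u} f.base M.presheaf U x hU)
  refine Alg6.depth_eq_of_semilinear (f.stalkMap x).hom (f.stalkMap_surjective x) e ?_
  intro a m
  obtain ⟨U, hU, b, rfl⟩ := Y.presheaf.exists_germ_eq (x := f x) a
  obtain ⟨V, hV, v, rfl⟩ := ((Coh.push f).obj M).presheaf.germ_exist m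
  have hW : f x ∈ U ⊓ V := ⟨hU, hV⟩
  rw [← Y.presheaf.germ_res_apply (homOfLE inf_le_left : U ⊓ V ⟶ U) (f x) hW b,
    ← ((Coh.push f).obj M).presheaf.germ_res_apply (homOfLE inf_le_right : U ⊓ V ⟶ V) (f x) hW v]
  generalize Y.presheaf.map (homOfLE inf_le_left : U ⊓ V ⟶ U).op b = b'
  generalize ((Coh.push f).obj M).presheaf.map (homOfLE inf_le_right : U ⊓ V ⟶ V).op v = v'
  rw [← QCoh.germ_smul' ((Coh.push f).obj M) hW, he, he]
  refine (QCoh.germ_smul' M (show x ∈ f ⁻¹ᵁ (U ⊓ V) from hW) (f.app _ b') v').trans ?_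
  exact congrArg (fun t => t • M.presheaf.germ (f ⁻¹ᵁ (U ⊓ V)) x hW v')
    (Scheme.Hom.germ_stalkMap_apply f (U ⊓ V) x hW b').symm

/-- Depth of a direct image along a closed immersion, off the image. -/
theorem depth_push_of_not_mem {X Y : Scheme.{u}} (f : X ⟶ Y) [IsClosedImmersion f] (M : X.Modules) {y : Y}
    (hy : y ∉ Set.range f) :
    LocCoh.depth (Y.presheaf.stalk y) (((Scheme.Modules.pushforward f).obj M).presheaf.stalk y) = ⊤ := by
  haveI : Subsingleton (((Scheme.Modules.pushforward f).obj M).presheaf.stalk y) :=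
    AddCommGrpCat.isZero_iff_subsingleton.1 (KFlatLib.isZero_stalk_push f y hy M)
  unfold LocCoh.depth LocCoh.idealDepth
  rw [if_pos (Subsingleton.elim _ _)]

variable {k : Type u} [Field k] {n : ℕ} {X : Scheme.{u}} (ι : X ⟶ CohB1.ProjSpace n k) [IsClosedImmersion ι]

/-- Cohomology of a twist on the closed subscheme, on the projective space. -/
theorem nonempty_HH_twist {F : X.Modules} (hF : Coh.IsCoh F) (d : ℤ) (i : ℕ) :
    Nonempty (Coh.HH X (CohB1.tensorMod F ((Scheme.Modules.pullback ι).obj (Twist.twistProjSpace n k d))) i ≃+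
      Coh.HH (CohB1.ProjSpace n k)
        (Twist.twistBy (CohB1.polyGrading n k) ((Scheme.Modules.pushforward ι).obj F) d) i) := by
  obtain ⟨e⟩ := QCoh.HH_push_of_isAffineHom ι (Pic13Lib.isCoh_twistOn ι hF d).1 i
  obtain ⟨p⟩ := Pic13Lib.push_twistOn ι F d
  exact ⟨e.trans ((Sheaf.functorH _ i).mapIso
    ((SheafOfModules.toSheaf (CohB1.ProjSpace n k).ringCatSheaf).mapIso p.symm)).addCommGroupIsoToAddEquiv⟩

/-- The criterion on a closed subscheme, by depth at closed points. -/
theorem hvan_closed_iff {F : X.Modules} (hF : Coh.IsCoh F) (b : ℕ) :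
    (∃ m₀ : ℤ, ∀ m : ℤ, m₀ ≤ m → ∀ i : ℕ, i ≤ b → Subsingleton (Coh.HH X
        (CohB1.tensorMod F ((Scheme.Modules.pullback ι).obj (Twist.twistProjSpace n k (-m)))) i)) ↔
      ∀ x : X, IsClosed ({x} : Set ↥X) →
        (b : ℕ∞) < LocCoh.depth (X.presheaf.stalk x) (F.presheaf.stalk x) := by
  have hG := Pic13Lib.isCoh_push ι hF
  have key : ∀ (m : ℤ) (i : ℕ), Subsingleton (Coh.HH X
      (CohB1.tensorMod F ((Scheme.Modules.pullback ι).obj (Twist.twistProjSpace n k (-m)))) i) ↔
      Subsingleton (Coh.HH (CohB1.ProjSpace n k)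
        (Twist.twistBy (CohB1.polyGrading n k) ((Scheme.Modules.pushforward ι).obj F) (-m)) i) := fun m i => by
    obtain ⟨e⟩ := nonempty_HH_twist ι hF (-m) i
    exact e.toEquiv.subsingleton_congr
  simp only [key]
  refine (hvan_le_iff_depth hG b).trans ⟨fun h x hx => ?_, fun h y hy => ?_⟩
  · rw [← depth_push ι F x]
    exact h (ι x) ((isClosed_singleton_iff ι x).2 hx)
  · by_cases hr : y ∈ Set.range ι
    · obtain ⟨x, rfl⟩ := hr
      rw [depth_push ι F x]
      exact h x ((isClosed_singleton_iff ι x).1 hy)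
    · rw [depth_push_of_not_mem ι F hr]
      exact ENat.natCast_lt_top b

theorem depth_le_of_free {R : Type u} [CommRing R] [IsLocalRing R] [IsNoetherianRing R] (M : Type u) [AddCommGroup M]
    [Module R M] [Module.Free R M] [Module.Finite R M] : LocCoh.depth R R ≤ LocCoh.depth R M := by
  let b := Module.finBasis R M
  rcases h : Module.finrank R M with _ | c
  · haveI : IsEmpty (Fin (Module.finrank R M)) := by rw [h]; infer_instance
    haveI : Subsingleton M := b.repr.toEquiv.subsingleton
    unfold LocCoh.depth LocCoh.idealDepth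
    rw [if_pos (Subsingleton.elim (α := Submodule R M) _ _)]
    exact le_top
  · rw [Hensel.depth_congr (b.equivFun.trans (LinearEquiv.funCongrLeft R R (finCongr h.symm))),
      FlatLoc6.depth_pi R c]

/-- Local Cohen-Macaulayness in dimension `n`, by depth. -/
theorem isCM_iff_le_depth {X : Scheme.{u}} {n : ℕ} (hn : topologicalKrullDim ↥X = n) (x : X)
    [IsNoetherianRing (X.presheaf.stalk x)] :
    LocCoh.IsCohenMacaulayLocalRing (X.presheaf.stalk x) ∧ ringKrullDim (X.presheaf.stalk x) = n ↔
      (n : ℕ∞) ≤ LocCoh.depth (X.presheaf.stalk x) (X.presheaf.stalk x) := by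
  have h1 : ringKrullDim (X.presheaf.stalk x) ≤ ((n : ℕ∞) : WithBot ℕ∞) :=
    (CurveCohLib.ringKrullDim_stalk_le_topologicalKrullDim x).trans hn.le
  have h2 := LC.depth_le_supportDim (R := X.presheaf.stalk x) (X.presheaf.stalk x)
  rw [Module.supportDim_self_eq_ringKrullDim] at h2
  constructor
  · rintro ⟨hcm, hd⟩
    have h3 := hcm.supportDim_eq_depth
    rw [Module.supportDim_self_eq_ringKrullDim, hd] at h3
    exact (WithBot.coe_injective (h3 : ((n : ℕ∞) : WithBot ℕ∞) = _)).le
  · intro h
    have hd : ringKrullDim (X.presheaf.stalk x) = ((n : ℕ∞) : WithBot ℕ∞) :=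
      le_antisymm h1 ((WithBot.coe_le_coe.2 h).trans h2)
    have he : LocCoh.depth (X.presheaf.stalk x) (X.presheaf.stalk x) = (n : ℕ∞) :=
      le_antisymm (WithBot.coe_le_coe.1 (h2.trans hd.le)) h
    refine ⟨{ supportDim_eq_depth := ?_ }, hd⟩
    rw [Module.supportDim_self_eq_ringKrullDim, hd, he]

end Groth.Agent.PD70
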