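import Groth.Prelude.Def_GrTwist
import Groth.Prelude.Def_CohB1
import Groth.Agent.GrTwistX.Triv
import Groth.Agent.PnCoh.Chow.PullFrame
import Groth.Agent.InvX.GenLocusPull
import Groth.Agent.SurfInt.FrameIso
import Groth.Agent.Proj16.Map
import Groth.Agent.Proj16.Graded
import Groth.Agent.SegreX.Coord

/-!
# A standard graded algebra over a field embeds in projective space, with its twisting sheaves
-/

universe u

set_option backward.isDefEq.respectTransparency false
set_option backward.isDefEq.respectTransparency.types false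
set_option linter.style.haveILetI false

open CategoryTheory CategoryTheory.Limits AlgebraicGeometry TopologicalSpace Opposite MvPolynomial
open scoped HomogeneousIdeal

noncomputable section

namespace Groth.Agent.PD70

variable {K : Type u} [Field K] {A : Type u} [CommRing A] [Algebra K A] {𝒜 : ℕ → Submodule K A} [GradedAlgebra 𝒜]
  {N : ℕ} (s : Fin (N + 1) → A) (hs : ∀ i, s i ∈ 𝒜 1)

include hs in
theorem aeval_mem {i : ℕ} {p : MvPolynomial (Fin (N + 1)) K} (hp : p ∈ CohB1.polyGrading N K i) :
    MvPolynomial.aeval s p ∈ 𝒜 i := by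
  classical
  have hp' : p.IsHomogeneous i := hp
  rw [p.as_sum, map_sum]
  refine sum_mem fun d hd => ?_
  rw [MvPolynomial.aeval_monomial, ← Algebra.smul_def]
  refine Submodule.smul_mem _ _ ?_
  have hdeg : d.degree = i := by
    have := hp' (MvPolynomial.mem_support_iff.1 hd)
    rwa [Finsupp.degree_eq_weight_one]
  rw [← hdeg, Finsupp.degree_apply, Finsupp.prod]
  exact SetLike.prod_pow_mem_graded 𝒜 (fun _ => 1) _ _ (fun j _ => hs j) |> fun h => by simpa using h

/-- The graded map from the polynomial ring. -/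
def coordHom : CohB1.polyGrading N K →+*ᵍ 𝒜 where
  __ := (MvPolynomial.aeval s).toRingHom
  map_mem := aeval_mem s hs

theorem coordHom_surjective (h0 : ∀ a : A, a ∈ 𝒜 0 ↔ a ∈ Set.range (algebraMap K A))
    (hgen : (HomogeneousIdeal.irrelevant 𝒜).toIdeal ≤ Ideal.span (Set.range s)) :
    Function.Surjective (coordHom s hs) := by
  have htop := Proj16.adjoin_eq_top_of_irrelevant_le_span 𝒜 (E := Set.range s)
    (by rintro _ ⟨i, rfl⟩; exact ⟨1, Nat.one_pos, hs i⟩) hgen
  intro a
  have ha : a ∈ Algebra.adjoin (𝒜 0) (Set.range s) := htop ▸ trivial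
  suffices h : a ∈ Algebra.adjoin K (Set.range s) by
    rwa [Algebra.adjoin_range_eq_range_aeval] at h
  induction ha using Algebra.adjoin_induction with
  | mem x hx => exact Algebra.subset_adjoin hx
  | algebraMap r =>
    obtain ⟨c, hc⟩ := (h0 r.1).1 r.2
    show (r : A) ∈ Algebra.adjoin K (Set.range s)
    rw [← hc]
    exact Subalgebra.algebraMap_mem _ c
  | add x y _ _ hx hy => exact add_mem hx hy
  | mul x y _ _ hx hy => exact mul_mem hx hy

theorem irrelevant_le_map (hgen : (HomogeneousIdeal.irrelevant 𝒜).toIdeal ≤ Ideal.span (Set.range s)) :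
    𝒜₊ ≤ ((CohB1.polyGrading N K)₊).map (coordHom s hs) := by
  show (HomogeneousIdeal.irrelevant 𝒜).toIdeal ≤ Ideal.map (coordHom s hs) (HomogeneousIdeal.irrelevant (CohB1.polyGrading N K)).toIdeal
  refine hgen.trans (Ideal.span_le.2 ?_)
  rintro _ ⟨i, rfl⟩
  have hX : (MvPolynomial.X i : MvPolynomial (Fin (N + 1)) K) ∈ (HomogeneousIdeal.irrelevant (CohB1.polyGrading N K)).toIdeal :=
    HomogeneousIdeal.mem_irrelevant_of_mem _ Nat.one_pos (MvPolynomial.isHomogeneous_X K i)
  have := Ideal.mem_map_of_mem (coordHom s hs) hX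
  rwa [show coordHom s hs (MvPolynomial.X i) = s i from MvPolynomial.aeval_X s i] at this

variable (hgen : (HomogeneousIdeal.irrelevant 𝒜).toIdeal ≤ Ideal.span (Set.range s))

/-- The embedding. -/
def embed : Proj 𝒜 ⟶ CohB1.ProjSpace N K := Proj.map (coordHom s hs) (irrelevant_le_map s hs hgen)

theorem isClosedImmersion_embed (h0 : ∀ a : A, a ∈ 𝒜 0 ↔ a ∈ Set.range (algebraMap K A)) :
    IsClosedImmersion (embed s hs hgen) :=
  Proj16.isClosedImmersion_map _ _ (coordHom_surjective s hs h0 hgen)

/-- The comparison of twisting sheaves. -/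
theorem nonempty_pullback_twist (m : ℤ) :
    Nonempty ((Scheme.Modules.pullback (embed s hs hgen)).obj (Twist.twistProjSpace N K m) ≅ GrTwist.twist 𝒜 m) := by
  let f := embed s hs hgen
  let φ : Twist.twistProjSpace N K m ⟶ (Scheme.Modules.pushforward f).obj (GrTwist.twist 𝒜 m) :=
    GrTwist.comap (coordHom s hs) (irrelevant_le_map s hs hgen) m
  let α := ((Scheme.Modules.pullbackPushforwardAdjunction f).homEquiv _ _).symm φ
  have hα : ∀ (V : (CohB1.ProjSpace N K).Opens) (e : Γ(Twist.twistProjSpace N K m, V)),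
      α.app (f ⁻¹ᵁ V) (InvX.pullElt f e) = φ.app V e := fun V e => by
    have h := ((Scheme.Modules.pullbackPushforwardAdjunction f).homEquiv _ _).apply_symm_apply φ
    rw [Adjunction.homEquiv_unit] at h
    exact (ConcreteCategory.congr_hom (congrArg (fun ψ => Scheme.Modules.Hom.app ψ V) h) e :)
  have hcov := fun x : Proj 𝒜 => Opens.mem_iSup.1 ((Proj.iSup_basicOpen_eq_top (CohB1.polyGrading N K) _
    (SegreX.irrelevant_le_span N K)).ge (Set.mem_univ (f x)))
  choose j hj using hcov
  refine ⟨@asIso _ _ _ _ α (SurfInt.isIso_of_frames α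
    (fun x => f ⁻¹ᵁ Proj.basicOpen (CohB1.polyGrading N K) (MvPolynomial.X (j x))) hj
    (fun x => PnCoh.Chow.pFrame f (MvPolynomial.isHomogeneous_X K (j x)) m)
    (fun x => PnCoh.Chow.isFrame_pFrame f _ m) fun x => ?_)⟩
  let U : (Proj 𝒜).Opens := f ⁻¹ᵁ Proj.basicOpen (CohB1.polyGrading N K) (MvPolynomial.X (j x))
  have hU : ∀ y : U, s (j x) ∉ y.1.asHomogeneousIdeal := fun y hy => y.2 (by
    show MvPolynomial.aeval s (MvPolynomial.X (j x) : MvPolynomial (Fin (N + 1)) K) ∈ y.1.asHomogeneousIdeal
    rwa [MvPolynomial.aeval_X])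
  let uf : GrTwistX.UnitFrac (𝒜 := 𝒜) m U :=
    { i := m.toNat, j := (-m).toNat, num := s (j x) ^ m.toNat, den := s (j x) ^ (-m).toNat,
      num_mem := by simpa using SetLike.pow_mem_graded m.toNat (hs (j x)),
      den_mem := by simpa using SetLike.pow_mem_graded (-m).toNat (hs (j x)),
      deg := by omega,
      num_ne := fun y => GrTwistX.notMem_pow (hU y) _,
      den_ne := fun y => GrTwistX.notMem_pow (hU y) _ }
  show InvX.IsFrame (α.app U (InvX.pullElt f _))
  rw [hα]
  have heq : φ.app _ (PnCoh.Chow.twF (MvPolynomial.isHomogeneous_X K (j x)) m) = GrTwistX.fracSect uf := by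
    refine Subtype.ext (funext fun y => Subtype.ext ?_)
    erw [GrTwist.comap_app_val]
    refine (GrTwist.locMap_mk _ _ _ _ _).trans ?_
    have hX : ∀ a : ℕ, coordHom s hs ((MvPolynomial.X (j x) : MvPolynomial (Fin (N + 1)) K) ^ a) = s (j x) ^ a := fun a => by
      show MvPolynomial.aeval s _ = _
      rw [map_pow, MvPolynomial.aeval_X]
    exact congrArg₂ Localization.mk (hX _) (Subtype.ext (hX _))
  erw [heq]
  exact fun V hV => GrTwistX.trivMap_bijective (uf.res hV)

end Groth.Agent.PD70
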