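import Groth.Agent.PD70.ClosedSub
import Groth.Agent.PD70.Embed
import Groth.Agent.LC.PdRegular
import Groth.Agent.CurveEmbed.Equiv

/-!
# Locally free modules on regular projective schemes, by vanishing of cohomology
-/

universe u

set_option backward.isDefEq.respectTransparency false
set_option backward.isDefEq.respectTransparency.types false
set_option linter.style.haveILetI false
set_option maxHeartbeats 1000000

open CategoryTheory CategoryTheory.Limits AlgebraicGeometry TopologicalSpace Opposite

noncomputable section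

namespace Groth.Agent.PD70

/-- A finite module over a regular local ring is free iff its depth is at least the dimension. -/
theorem free_iff_le_depth {R : Type u} [CommRing R] [IsRegularLocalRing R] {d : ℕ} (hd : ringKrullDim R = d)
    (M : Type u) [AddCommGroup M] [Module R M] [Module.Finite R M] :
    Module.Free R M ↔ (d : ℕ∞) ≤ LocCoh.depth R M := by
  constructor
  · intro
    haveI := LC.gorenstein_of_isRegularLocalRing (R := R)
    haveI hCM : LocCoh.IsCohenMacaulayLocalRing R := LC.isCohenMacaulayLocalRing_of_gorenstein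
    have h := hCM.supportDim_eq_depth
    rw [Module.supportDim_self_eq_ringKrullDim, hd] at h
    exact (WithBot.coe_injective (h : ((d : ℕ∞) : WithBot ℕ∞) = _)).trans_le (depth_le_of_free M)
  · intro h
    haveI : Module.Projective R M :=
      RegLoc6.pdLE_zero_iff.1 (LC.pdLE_of_le_depth R d hd M 0 (by simpa using h))
    exact Module.free_of_flat_of_isLocalRing

/-- Local freeness can be tested at closed points. -/
theorem isFinLocFree_of_closed {X : Scheme.{u}} [CompactSpace X] {F : X.Modules} (hF : CohB1.IsFP F)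
    (h : ∀ x : X, IsClosed ({x} : Set ↥X) → Module.Free (X.presheaf.stalk x) (F.presheaf.stalk x)) :
    FlatMod.IsFinLocFree F := fun x => by
  obtain ⟨z, hz, hzc⟩ := IsClosed.exists_closed_singleton (isClosed_closure (s := {x})) ⟨x, subset_closure rfl⟩
  haveI := h z hzc
  obtain ⟨U, r, hzU, e⟩ := QCoh.exists_free_nhd_of_free_stalk hF z
  exact ⟨U, r, (specializes_iff_mem_closure.2 hz).mem_open U.2 hzU, e⟩

/-- Dimension at closed points of an irreducible scheme of finite type over a field. -/
theorem ringKrullDim_stalk_eq_of_closed {k : Type u} [Field k] {X : Scheme.{u}} (f : X ⟶ Spec (CommRingCat.of k))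
    [LocallyOfFiniteType f] [IrreducibleSpace X] {d : ℕ} (hd : topologicalKrullDim ↥X = d) (x : X)
    (hx : IsClosed ({x} : Set ↥X)) : ringKrullDim (X.presheaf.stalk x) = d := by
  obtain ⟨b, hb, ⟨η, hη, hdeg⟩, hle⟩ := VarDim.exists_deg_add_stalk f x
  have h0 := (VarDim.closedPoint_iff_deg_eq_zero f x).mp hx
  have hgen : VarDim.deg f (genericPoint X) = d := by
    have := (VarDim.topologicalKrullDim_eq_deg_genericPoint f).symm.trans hd
    exact_mod_cast this
  have h1 := VarDim.deg_le_of_specializes f (genericPoint_specializes η)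
  have h2 := hle _ (genericPoint_specializes x)
  have : b = d := by omega
  rw [hb, this]

theorem isFinLocFree_iff_vanishing {k : Type u} [Field k] {N : ℕ} {X : Scheme.{u}} (ι : X ⟶ CohB1.ProjSpace N k)
    [IsClosedImmersion ι] [ConnectedSpace X] (hreg : ∀ x : X, IsRegularLocalRing (X.presheaf.stalk x))
    {d : ℕ} (hd : topologicalKrullDim ↥X = d) {F : X.Modules} (hF : Coh.IsCoh F) :
    FlatMod.IsFinLocFree F ↔ ∀ i : ℕ, i < d → ∃ m₀ : ℤ, ∀ m : ℤ, m₀ ≤ m → Subsingleton (Coh.HH X
        (CohB1.tensorMod F ((Scheme.Modules.pullback ι).obj (Twist.twistProjSpace N k (-m)))) i) := by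
  haveI := Pic13Lib.isNoetherian ι
  haveI : LocallyOfFiniteType (ι ≫ CohB1.ProjSpace.toSpec N k) := by
    haveI : IsProper (CohB1.ProjSpace.toSpec N k) := PnCoh.Chow.isProper_toSpec N k
    infer_instance
  haveI : IsIntegral X := CurveEmbed.isIntegral_of_normal_connected fun x => by
    haveI := hreg x
    exact ⟨RegLoc6.isDomain_of_isRegularLocalRing _, by
      haveI := RegLoc6.isDomain_of_isRegularLocalRing (X.presheaf.stalk x)
      exact RegLoc6.isIntegrallyClosed_of_isRegularLocalRing _⟩
  have hdim := fun (x : X) (hx : IsClosed ({x} : Set ↥X)) =>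
    ringKrullDim_stalk_eq_of_closed (ι ≫ CohB1.ProjSpace.toSpec N k) hd x hx
  have hfin : ∀ x : X, Module.Finite (X.presheaf.stalk x) (F.presheaf.stalk x) :=
    fun x => QCoh.finite_stalk_of_isFT hF.1 hF.2 x
  have key : FlatMod.IsFinLocFree F ↔
      ∀ x : X, IsClosed ({x} : Set ↥X) → (d : ℕ∞) ≤ LocCoh.depth (X.presheaf.stalk x) (F.presheaf.stalk x) := by
    refine ⟨fun h x hx => ?_, fun h => isFinLocFree_of_closed (QCoh.isCoh_iff_isFP.1 hF) fun x hx => ?_⟩
    · haveI := hreg x
      haveI := hfin x
      exact (free_iff_le_depth (hdim x hx) _).1 (QCoh.free_stalk_of_isFinLocFree h x)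
    · haveI := hreg x
      haveI := hfin x
      exact (free_iff_le_depth (hdim x hx) _).2 (h x hx)
  rw [key]
  rcases d with _ | b
  · exact ⟨fun _ i hi => absurd hi (Nat.not_lt_zero i), fun _ x _ => bot_le⟩
  constructor
  · intro h i hi
    obtain ⟨m₀, hm⟩ := (hvan_closed_iff ι hF b).2 fun x hx =>
      lt_of_lt_of_le (by exact_mod_cast Nat.lt_succ_self b) (h x hx)
    exact ⟨m₀, fun m hmm => hm m hmm i (Nat.lt_succ_iff.1 hi)⟩
  · intro h x hx
    choose m₀ hm using h
    have := (hvan_closed_iff ι hF b).1 ⟨∑ i : Fin (b + 1), |m₀ i.1 i.2|, fun m hmm i hi =>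
      hm i (Nat.lt_succ_iff.2 hi) m ((le_abs_self _).trans ((Finset.single_le_sum
        (f := fun j : Fin (b + 1) => |m₀ j.1 j.2|) (fun j _ => abs_nonneg _)
        (Finset.mem_univ ⟨i, Nat.lt_succ_iff.2 hi⟩)).trans hmm))⟩ x hx
    rw [Nat.cast_add, Nat.cast_one]
    exact Order.add_one_le_of_lt this

end Groth.Agent.PD70
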