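import Groth.Agent.PD70.ExtShStalk
import Groth.Agent.PD70.ClosedSub
import Groth.Agent.PD70.LocFree
import Groth.Agent.VarDim.Fibre
import Groth.Agent.QCoh.DevissageP
import Groth.Agent.S0019

/-!
# `extSh` of a closed subscheme vanishes below the codimension
-/

universe u

set_option backward.isDefEq.respectTransparency false
set_option backward.isDefEq.respectTransparency.types false
set_option linter.style.haveILetI false
set_option maxHeartbeats 1000000

open CategoryTheory CategoryTheory.Limits AlgebraicGeometry TopologicalSpace Opposite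

noncomputable section

namespace Groth.Agent.PD70

/-- The dimension of the support of the stalk of a direct image. -/
theorem supportDim_push_le {X Y : Scheme.{u}} (f : X ⟶ Y) [IsClosedImmersion f] (M : X.Modules) (x : X)
    [Module.Finite (Y.presheaf.stalk (f x)) (((Scheme.Modules.pushforward f).obj M).presheaf.stalk (f x))] :
    Module.supportDim (Y.presheaf.stalk (f x)) (((Scheme.Modules.pushforward f).obj M).presheaf.stalk (f x)) ≤
      ringKrullDim (X.presheaf.stalk x) := by
  haveI := KFlatLib.isIso_stalkPushforward_closed f M x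
  let R := Y.presheaf.stalk (f x)
  let N := ((Scheme.Modules.pushforward f).obj M).presheaf.stalk (f x)
  have hle : RingHom.ker (f.stalkMap x).hom ≤ Module.annihilator R N := by
    intro a ha
    refine Module.mem_annihilator.2 fun m => ?_
    obtain ⟨U, hU, b, rfl⟩ := Y.presheaf.exists_germ_eq (x := f x) a
    obtain ⟨V, hV, v, rfl⟩ := TopCat.Presheaf.exists_germ_eq ((Coh.push f).obj M).presheaf m
    have hW : f x ∈ U ⊓ V := ⟨hU, hV⟩
    rw [← Y.presheaf.germ_res_apply (homOfLE inf_le_left : U ⊓ V ⟶ U) (f x) hW b,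
      ← ((Coh.push f).obj M).presheaf.germ_res_apply (homOfLE inf_le_right : U ⊓ V ⟶ V) (f x) hW v] at *
    generalize Y.presheaf.map (homOfLE inf_le_left : U ⊓ V ⟶ U).op b = b' at *
    generalize ((Coh.push f).obj M).presheaf.map (homOfLE inf_le_right : U ⊓ V ⟶ V).op v = v'
    let e := (asIso (TopCat.Presheaf.stalkPushforward Ab.{u} f.base M.presheaf x)).addCommGroupIsoToAddEquiv
    have he : ∀ (v : Γ(M, f ⁻¹ᵁ (U ⊓ V))),
        e (((Coh.push f).obj M).presheaf.germ (U ⊓ V) (f x) hW v) = M.presheaf.germ (f ⁻¹ᵁ (U ⊓ V)) x hW v := fun v =>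
      congrArg (fun φ => φ v) (TopCat.Presheaf.stalkPushforward_germ Ab.{u} f.base M.presheaf (U ⊓ V) x hW)
    rw [← QCoh.germ_smul' ((Coh.push f).obj M) hW]
    refine e.injective ?_
    rw [he, map_zero]
    refine (QCoh.germ_smul' M (show x ∈ f ⁻¹ᵁ (U ⊓ V) from hW) (f.app _ b') v').trans ?_
    have h0 : (f.stalkMap x) (Y.presheaf.germ (U ⊓ V) (f x) hW b') = 0 := ha
    rw [Scheme.Hom.germ_stalkMap_apply] at h0
    exact (congrArg (fun t => t • M.presheaf.germ (f ⁻¹ᵁ (U ⊓ V)) x hW v') h0).trans (zero_smul _ _)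
  rw [← ringKrullDim_eq_of_ringEquiv (RingHom.quotientKerEquivOfSurjective (f.stalkMap_surjective x))]
  calc Module.supportDim R N ≤ ringKrullDim (R ⧸ Module.annihilator R N) := by
        rw [Module.supportDim_eq_ringKrullDim_quotient_annihilator]
    _ ≤ _ := ringKrullDim_le_of_surjective _ (Ideal.Quotient.factor_surjective hle)

/-- `Ext` into a finite free module over a regular local ring vanishes below the codimension of the support. -/
theorem subsingleton_ext_regular {R : Type u} [CommRing R] [IsRegularLocalRing R] {D : ℕ} (hD : ringKrullDim R = D)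
    (N G : Type u) [AddCommGroup N] [Module R N] [Module.Finite R N] [AddCommGroup G] [Module R G]
    [Module.Finite R G] [Module.Free R G] {b i : ℕ} (hN : Module.supportDim R N ≤ (b : WithBot ℕ∞)) (hi : i + b < D) :
    Subsingleton (Abelian.Ext (ModuleCat.of R N) (ModuleCat.of R G) i) :=
  LC.subsingleton_ext_of_add_lt_depth G N b i hN
    (lt_of_lt_of_le (by exact_mod_cast hi) ((free_iff_le_depth hD G).1 inferInstance))

variable {k : Type u} [Field k] {P X : Scheme.{u}} (p : P ⟶ Spec (CommRingCat.of k)) [LocallyOfFiniteType p]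

theorem deg_closed (ι : X ⟶ P) [IsClosedImmersion ι] (z : X) : VarDim.deg (ι ≫ p) z = VarDim.deg p (ι z) := by
  rw [VarDim.deg_comp_eq]
  have h0 := VarDim.rdeg_preimmersion ι z
  rw [← VarDim.fdeg_eq_rdeg ι p z, Nat.cast_eq_zero] at h0
  rw [h0, add_zero]

/-- The points of a closed subscheme have degree at most its dimension. -/
theorem deg_closed_le (ι : X ⟶ P) [IsClosedImmersion ι] (z : X) {c n : ℕ}
    (h : topologicalKrullDim ↥X + (c : WithBot ℕ∞) ≤ (n : WithBot ℕ∞)) : VarDim.deg p (ι z) + c ≤ n := by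
  have h1 : ((VarDim.deg (ι ≫ p) z : ℕ∞) : WithBot ℕ∞) ≤ topologicalKrullDim ↥X :=
    (le_iSup (fun x : X => ((VarDim.deg (ι ≫ p) x : ℕ∞) : WithBot ℕ∞)) z).trans_eq
      (VarDim.topologicalKrullDim_eq_iSup_deg (ι ≫ p)).symm
  rw [deg_closed p ι z] at h1
  have h2 := (add_le_add h1 (le_refl (c : WithBot ℕ∞))).trans h
  exact_mod_cast h2

/-- `extSh(ι_*F, G)` vanishes below the codimension, for locally free `G` on a regular scheme. -/
theorem isZero_extSh_push (hreg : ∀ y : P, IsRegularLocalRing (P.presheaf.stalk y)) {n : ℕ}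
    (hP : ∀ η : P, (∀ y, y ⤳ η → y = η) → n ≤ VarDim.deg p η)
    (ι : X ⟶ P) [IsClosedImmersion ι] {c : ℕ} (hX : ∀ z : X, VarDim.deg p (ι z) + c ≤ n)
    {F : X.Modules} (hF : CohB1.IsFP ((Scheme.Modules.pushforward ι).obj F))
    (hFfin : ∀ y, Module.Finite (P.presheaf.stalk y) (((Scheme.Modules.pushforward ι).obj F).presheaf.stalk y))
    {G : P.Modules} (hG : FlatMod.IsFinLocFree G)
    [ModSite.HasSheafHom (O := P.sheaf) ((Scheme.Modules.pushforward ι).obj F)]
    [HasInjectiveResolutions (ModSite.Mod P.sheaf)] {i : ℕ} (hi : i < c) :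
    IsZero ((ModSite.extSh (O := P.sheaf) ((Scheme.Modules.pushforward ι).obj F) i).obj G) := by
  haveI : IsLocallyNoetherian P := LocallyOfFiniteType.isLocallyNoetherian p
  refine (isZero_extSh_iff _ hF i G).2 fun y => ?_
  haveI := hreg y
  haveI := hFfin y
  haveI := QCoh.free_stalk_of_isFinLocFree hG y
  haveI : Module.Finite (P.presheaf.stalk y) (G.presheaf.stalk y) :=
    QCoh.finite_stalk_of_isFT (QCoh.isCoh_iff_isFP.2 (QCoh.isFP_of_isFinLocFree hG)).1
      (QCoh.isCoh_iff_isFP.2 (QCoh.isFP_of_isFinLocFree hG)).2 y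
  obtain ⟨D, hD, ⟨η, hη, hdeg⟩, hle⟩ := VarDim.exists_deg_add_stalk p y
  by_cases hy : y ∈ Set.range ι
  · obtain ⟨x, rfl⟩ := hy
    have : LocallyOfFiniteType (ι ≫ p) := inferInstance
    obtain ⟨b, hb, ⟨ξ, hξ, hξd⟩, -⟩ := VarDim.exists_deg_add_stalk (ι ≫ p) x
    have hdx : ∀ z : X, VarDim.deg (ι ≫ p) z = VarDim.deg p (ι z) := deg_closed p ι
    have h1 := hX ξ
    rw [← hdx, hξd, hdx] at h1
    have h2 : n ≤ VarDim.deg p η := hP η fun z hz =>
      VarDim.eq_of_specializes_of_deg_le p hz (hdeg ▸ hle z (hz.trans hη))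
    exact subsingleton_ext_regular hD _ _ ((supportDim_push_le ι F x).trans hb.le) (by omega)
  · haveI : Subsingleton (((Scheme.Modules.pushforward ι).obj F).presheaf.stalk y) :=
      AddCommGrpCat.isZero_iff_subsingleton.1 (KFlatLib.isZero_stalk_push ι y hy F)
    have h0 : IsZero ((DerSch.stalkFunctor P y).obj ((Scheme.Modules.pushforward ι).obj F)) :=
      ModuleCat.isZero_iff_subsingleton.2 (‹_› : Subsingleton (((Scheme.Modules.pushforward ι).obj F).presheaf.stalk y))
    refine subsingleton_of_forall_eq 0 fun z => ?_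
    rw [← Abelian.Ext.mk₀_id_comp z, h0.eq_of_src (𝟙 _) 0, Abelian.Ext.mk₀_zero, Abelian.Ext.zero_comp]

/-- The structure module of a closed subscheme is coherent on the ambient scheme. -/
theorem isCoh_push_structureModule [IsLocallyNoetherian P] (ι : X ⟶ P) [IsClosedImmersion ι] :
    Coh.IsCoh ((Scheme.Modules.pushforward ι).obj (Coh.structureModule X)) := by
  haveI : IsLocallyNoetherian X := LocallyOfFiniteType.isLocallyNoetherian ι
  exact S0019.result ι _ QCoh.isCoh_structureModule'

/-- Vanishing below the codimension on projective space. -/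
theorem isZero_extSh_pn {N : ℕ} (ι : X ⟶ CohB1.ProjSpace N k) [IsClosedImmersion ι] {r : ℕ}
    (hr : topologicalKrullDim ↥X + (r : WithBot ℕ∞) ≤ (N : WithBot ℕ∞))
    {G : (CohB1.ProjSpace N k).Modules} (hG : FlatMod.IsFinLocFree G)
    [ModSite.HasSheafHom (O := (CohB1.ProjSpace N k).sheaf) ((Scheme.Modules.pushforward ι).obj (Coh.structureModule X))]
    [HasInjectiveResolutions (ModSite.Mod (CohB1.ProjSpace N k).sheaf)] {i : ℕ} (hi : i < r) :
    IsZero ((ModSite.extSh (O := (CohB1.ProjSpace N k).sheaf)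
      ((Scheme.Modules.pushforward ι).obj (Coh.structureModule X)) i).obj G) := by
  haveI : IsProper (CohB1.ProjSpace.toSpec N k) := PnCoh.Chow.isProper_toSpec N k
  haveI := PnCoh.Finite.isLocallyNoetherian_projSpace N k
  haveI := H23.PnChart.isIntegral_projSpace (n := N) (k := k)
  let f := CohB1.ProjSpace.toSpec N k
  have hc := isCoh_push_structureModule ι
  have hd : VarDim.deg f (genericPoint (CohB1.ProjSpace N k)) = N := by
    have := (VarDim.topologicalKrullDim_eq_deg_genericPoint f).symm.trans (S10829.result k N)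
    exact_mod_cast this
  refine isZero_extSh_push f isRegularLocalRing_stalk (fun η hη => ?_) ι (fun z => deg_closed_le f ι z hr)
    (QCoh.isCoh_iff_isFP.1 hc) (fun y => QCoh.finite_stalk_of_isFT hc.1 hc.2 y) hG hi
  rw [← hη _ (genericPoint_specializes η), hd]

end Groth.Agent.PD70
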