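import Groth.Agent.PD70.ExtStalk
import Groth.Agent.CurveEmbed.Conic
import Groth.Agent.GrpSchLib.SmoothRegular
import Groth.Agent.VarDim.Local
import Groth.Agent.H23.PnChart
import Groth.Agent.S10829
import Groth.Agent.LC.GorRows

/-!
# Vanishing of the cohomology of large negative twists on projective space
-/

universe u

set_option backward.isDefEq.respectTransparency false
set_option backward.isDefEq.respectTransparency.types false
set_option linter.style.haveILetI false
set_option maxHeartbeats 1000000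

open CategoryTheory CategoryTheory.Limits AlgebraicGeometry TopologicalSpace Opposite
open CategoryTheory.Abelian

noncomputable section

namespace Groth.Agent.PD70

variable {k : Type u} [Field k] {n : ℕ}

/-- Vanishing of `H^i(F(-m))` for all large `m`. -/
def HVan (i : ℕ) (F : (CohB1.ProjSpace n k).Modules) : Prop :=
  ∃ m₀ : ℤ, ∀ m : ℤ, m₀ ≤ m → Subsingleton (Coh.HH (CohB1.ProjSpace n k) (Twist.twistBy (CohB1.polyGrading n k) F (-m)) i)

theorem isRegularLocalRing_stalk (x : ↥(CohB1.ProjSpace n k)) :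
    IsRegularLocalRing ((CohB1.ProjSpace n k).presheaf.stalk x) :=
  haveI := CurveEmbed.smooth_toSpec n k
  GrpSchLib.isRegularLocalRing_stalk_of_smooth (CohB1.ProjSpace.toSpec n k) x

theorem ringKrullDim_stalk_closed (x : ↥(CohB1.ProjSpace n k)) (hx : IsClosed ({x} : Set _)) :
    ringKrullDim ((CohB1.ProjSpace n k).presheaf.stalk x) = (n : ℕ) := by
  haveI := CurveEmbed.smooth_toSpec n k
  haveI := H23.PnChart.isIntegral_projSpace (n := n) (k := k)
  let f := CohB1.ProjSpace.toSpec n k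
  obtain ⟨b, hb, ⟨η, hη, hdeg⟩, hle⟩ := VarDim.exists_deg_add_stalk f x
  have h0 := (VarDim.closedPoint_iff_deg_eq_zero f x).mp hx
  have hd : VarDim.deg f (genericPoint (CohB1.ProjSpace n k)) = n := by
    have := (VarDim.topologicalKrullDim_eq_deg_genericPoint f).symm.trans (S10829.result k n)
    exact_mod_cast this
  have h1 := VarDim.deg_le_of_specializes f (genericPoint_specializes η)
  have h2 := hle _ (genericPoint_specializes x)
  have : b = n := by omega
  rw [hb, this]

/-- Translation by Serre duality. -/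
theorem hvan_iff_evan {F : (CohB1.ProjSpace n k).Modules} (hF : Coh.IsCoh F) {i j : ℕ} (hij : i + j = n) :
    HVan i F ↔ EVan j F := by
  have key : ∀ m d : ℤ, d = m - ((n : ℤ) + 1) →
      (Subsingleton (Coh.HH (CohB1.ProjSpace n k) (Twist.twistBy (CohB1.polyGrading n k) F (-m)) i) ↔
        Subsingleton (Ext F (O n k d) j)) := by
    intro m d hd
    have hcoh : Coh.IsCoh (Twist.twistBy (CohB1.polyGrading n k) F (-m)) := ProjRegular.isCoh_twistBy hF (-m)
    obtain ⟨e₀⟩ := (PnDual.serre_duality (PnDual.goodPn_of_isCoh hcoh) j).1 (by omega)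
    rw [show n - j = i by omega] at e₀
    rw [← Module.subsingleton_dual_iff k, ← e₀.toEquiv.subsingleton_congr]
    let E := PnDual.twistEquivalence (PnDual.coordsR k n) PnDual.coordsR_mem PnDual.coordsR_cover (-m) m (neg_add_cancel m)
    haveI : E.functor.IsEquivalence := E.isEquivalence_functor
    haveI : E.inverse.IsEquivalence := E.isEquivalence_inverse
    haveI : E.inverse.Additive := Functor.additive_of_preserves_binary_products _
    haveI : EnoughInjectives (Proj (CohB1.polyGrading n k)).Modules := inferInstanceAs (EnoughInjectives (SheafOfModules _))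
    obtain ⟨e₁⟩ := SiteBase.nonempty_ext_addEquiv_of_adjunction E.toAdjunction
      (Iso.refl (E.functor.obj F)) j (Twist.twist (CohB1.polyGrading n k) (-((n : ℤ) + 1)))
    refine e₁.toEquiv.subsingleton_congr.trans ?_
    let i₁ : E.inverse.obj (Twist.twist (CohB1.polyGrading n k) (-((n : ℤ) + 1))) ≅ O n k d :=
      (PnCoh.Finite.twist_tensor_iso (PnDual.coordsR k n) PnDual.coordsR_mem PnDual.coordsR_cover
        (-((n : ℤ) + 1)) m).some ≪≫ eqToIso (by rw [hd]; congr 1; ring)
    exact ⟨fun _ => VB70.subsingleton_ext_of_iso (Iso.refl F) i₁.symm j,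
      fun _ => VB70.subsingleton_ext_of_iso (Iso.refl F) i₁ j⟩
  constructor
  · rintro ⟨m₀, h⟩
    exact ⟨m₀ - ((n : ℤ) + 1), fun d hd => (key (d + ((n : ℤ) + 1)) d (by ring)).1 (h _ (by omega))⟩
  · rintro ⟨d₀, h⟩
    exact ⟨d₀ + ((n : ℤ) + 1), fun m hm => (key m _ rfl).2 (h _ (by omega))⟩

theorem subsingleton_LCH_iff (x : ↥(CohB1.ProjSpace n k)) (hx : IsClosed ({x} : Set _))
    {F : (CohB1.ProjSpace n k).Modules} (hF : Coh.IsCoh F) {i j : ℕ} (hij : i + j = n) :
    Subsingleton ((localCohomology (IsLocalRing.maximalIdeal ((CohB1.ProjSpace n k).presheaf.stalk x)) i).obj (St x F)) ↔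
      Subsingleton (Ext (St x F) (Rx x) j) := by
  haveI := isRegularLocalRing_stalk x
  haveI := LC.gorenstein_of_isRegularLocalRing (R := (CohB1.ProjSpace n k).presheaf.stalk x)
  haveI : Module.Finite ((CohB1.ProjSpace n k).presheaf.stalk x) (F.presheaf.stalk x) :=
    QCoh.finite_stalk_of_isFT hF.1 hF.2 x
  obtain ⟨E, _, _, f, hf⟩ := LC.exists_injectiveHull ((CohB1.ProjSpace n k).presheaf.stalk x)
    (IsLocalRing.ResidueField ((CohB1.ProjSpace n k).presheaf.stalk x))
  obtain ⟨e⟩ := LC.exists_localDuality_gorenstein n (ringKrullDim_stalk_closed x hx) E hf (F.presheaf.stalk x) j i hij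
  exact e.toEquiv.subsingleton_congr.trans (LC.subsingleton_iff_dual hf _)

theorem subsingleton_HH_high {F : (CohB1.ProjSpace n k).Modules} (hF : Coh.IsCoh F) (m : ℤ) (i : ℕ) (hi : n < i) :
    Subsingleton (Coh.HH (CohB1.ProjSpace n k) (Twist.twistBy (CohB1.polyGrading n k) F (-m)) i) :=
  PnDual.subsingleton_HH_above (ProjRegular.isCoh_twistBy hF (-m)).1 i hi

/-- The criterion by local cohomology at closed points. -/
theorem hvan_iff_local {F : (CohB1.ProjSpace n k).Modules} (hF : Coh.IsCoh F) (i : ℕ) :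
    HVan i F ↔ ∀ x : ↥(CohB1.ProjSpace n k), IsClosed ({x} : Set _) →
      Subsingleton ((localCohomology (IsLocalRing.maximalIdeal ((CohB1.ProjSpace n k).presheaf.stalk x)) i).obj (St x F)) := by
  rcases Nat.lt_or_ge n i with hi | hi
  · refine ⟨fun _ x hx => ?_, fun _ => ⟨0, fun m _ => subsingleton_HH_high hF m i hi⟩⟩
    obtain ⟨i, rfl⟩ := Nat.exists_eq_succ_of_ne_zero (show i ≠ 0 by omega)
    refine LC.subsingleton_H_succ_of_ringKrullDim _ ((ringKrullDim_stalk_closed x hx).le.trans ?_) _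
    exact_mod_cast Nat.lt_succ_iff.1 hi
  · obtain ⟨j, hj⟩ := Nat.exists_eq_add_of_le hi
    rw [hvan_iff_evan hF hj.symm]
    obtain ⟨h1, h2⟩ := evan_iff j hF
    exact ⟨fun h x hx => (subsingleton_LCH_iff x hx hF hj.symm).2 (h1 h x),
      fun h => h2 fun x hx => (subsingleton_LCH_iff x hx hF hj.symm).1 (h x hx)⟩

/-- The criterion by `Ext` at all stalks. -/
theorem hvan_iff_stalk {F : (CohB1.ProjSpace n k).Modules} (hF : Coh.IsCoh F) {i j : ℕ} (hij : i + j = n) :
    HVan i F ↔ ∀ x : ↥(CohB1.ProjSpace n k), Subsingleton (Ext (St x F) (Rx x) j) := by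
  rw [hvan_iff_evan hF hij]
  exact ⟨fun h => (evan_iff j hF).1 h, fun h => (evan_iff j hF).2 fun x _ => h x⟩

/-- The criterion by depth. -/
theorem hvan_le_iff_depth {F : (CohB1.ProjSpace n k).Modules} (hF : Coh.IsCoh F) (b : ℕ) :
    (∃ m₀ : ℤ, ∀ m : ℤ, m₀ ≤ m → ∀ i : ℕ, i ≤ b →
        Subsingleton (Coh.HH (CohB1.ProjSpace n k) (Twist.twistBy (CohB1.polyGrading n k) F (-m)) i)) ↔
      ∀ x : ↥(CohB1.ProjSpace n k), IsClosed ({x} : Set _) →
        (b : ℕ∞) < LocCoh.depth ((CohB1.ProjSpace n k).presheaf.stalk x) (F.presheaf.stalk x) := by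
  have hiff : ∀ x : ↥(CohB1.ProjSpace n k), (b : ℕ∞) < LocCoh.depth ((CohB1.ProjSpace n k).presheaf.stalk x) (F.presheaf.stalk x) ↔
      ∀ i, i < b + 1 → Subsingleton ((localCohomology (IsLocalRing.maximalIdeal ((CohB1.ProjSpace n k).presheaf.stalk x)) i).obj (St x F)) := fun x => by
    haveI := isRegularLocalRing_stalk x
    haveI : Module.Finite ((CohB1.ProjSpace n k).presheaf.stalk x) (F.presheaf.stalk x) :=
      QCoh.finite_stalk_of_isFT hF.1 hF.2 x
    refine (ENat.add_one_le_iff (ENat.coe_ne_top b)).symm.trans ?_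
    have := LC.le_idealDepth_iff_H (IsLocalRing.maximalIdeal ((CohB1.ProjSpace n k).presheaf.stalk x)) (F.presheaf.stalk x) (b + 1)
    push_cast at this
    exact this
  constructor
  · rintro ⟨m₀, h⟩ x hx
    exact (hiff x).2 fun i hi => (hvan_iff_local hF i).1 ⟨m₀, fun m hm => h m hm i (Nat.lt_succ_iff.1 hi)⟩ x hx
  · intro h
    have h' : ∀ i, i ≤ b → HVan i F := fun i hi =>
      (hvan_iff_local hF i).2 fun x hx => (hiff x).1 (h x hx) i (Nat.lt_succ_iff.2 hi)
    choose m₀ hm₀ using h'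
    refine ⟨∑ i : Fin (b + 1), |m₀ i.1 (Nat.lt_succ_iff.1 i.2)|, fun m hm i hi => hm₀ i hi m ?_⟩
    refine le_trans (le_abs_self _) (le_trans ?_ hm)
    exact Finset.single_le_sum (f := fun j : Fin (b + 1) => |m₀ j.1 (Nat.lt_succ_iff.1 j.2)|)
      (fun j _ => abs_nonneg _) (Finset.mem_univ ⟨i, Nat.lt_succ_iff.2 hi⟩)

end Groth.Agent.PD70
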