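import Groth.Agent.PD70.Codim
import Groth.Agent.IntMult63.Points
import Groth.Agent.LC.DepthLoc

/-!
# Depth along a closed subset and the vanishing of local `Ext`
-/

universe u

set_option backward.isDefEq.respectTransparency false
set_option backward.isDefEq.respectTransparency.types false
set_option linter.style.haveILetI false
set_option maxHeartbeats 1000000

open CategoryTheory CategoryTheory.Limits AlgebraicGeometry TopologicalSpace Opposite
open IsLocalRing RingTheory.Sequence

noncomputable section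

namespace Groth.Agent.PD70

section Algebra

variable {A : Type u} [CommRing A] [IsNoetherianRing A] [IsLocalRing A] (M N : Type u) [AddCommGroup M]
  [Module A M] [Module.Finite A M] [AddCommGroup N] [Module A N] [Module.Finite A N]

omit [IsNoetherianRing A] [Module.Finite A M] in
theorem depth_eq_top [Subsingleton M] : LocCoh.depth A M = ⊤ := by
  unfold LocCoh.depth LocCoh.idealDepth
  rw [if_pos (Subsingleton.elim _ _)]

omit [IsNoetherianRing A] [Module.Finite A N] in
theorem annihilator_le_maximal [Nontrivial N] : Module.annihilator A N ≤ maximalIdeal A :=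
  IsLocalRing.le_maximalIdeal fun h => by
    obtain ⟨z, hz⟩ := exists_ne (0 : N)
    exact hz (by simpa using Module.mem_annihilator.1 (h ▸ Submodule.mem_top : (1 : A) ∈ Module.annihilator A N) z)

/-- Vanishing of `Ext` out of a nonzero module bounds the depth. -/
theorem le_depth_of_ext [Nontrivial N] (n : ℕ)
    (h : ∀ i < n, Subsingleton (Abelian.Ext (ModuleCat.of A N) (ModuleCat.of A M) i)) :
    (n : ℕ∞) ≤ LocCoh.depth A M := by
  rcases subsingleton_or_nontrivial M with hM | hM
  · rw [depth_eq_top]; exact le_top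
  have hI := annihilator_le_maximal (A := A) N
  obtain ⟨rs, hlen, hmem, hreg⟩ := ModuleCat.exists_isRegular_of_exists_subsingleton_ext (Module.annihilator A N) n
    (ModuleCat.of A M) (LC.smul_top_ne_top_of_le_maximal (M := M) hI).lt_top (ModuleCat.of A N)
    Module.support_eq_zeroLocus h
  rw [← hlen]
  exact Alg6.length_le_idealDepth hreg.toIsWeaklyRegular fun r hr => hI (hmem r hr)

/-- Depth along the support of `N` kills `Ext(N, M)`. -/
theorem subsingleton_ext_of_depth (n : ℕ) (h : ∀ q ∈ Module.support A N,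
      (n : ℕ∞) ≤ LocCoh.depth (Localization.AtPrime q.asIdeal) (LocalizedModule q.asIdeal.primeCompl M))
    (i : ℕ) (hi : i < n) : Subsingleton (Abelian.Ext (ModuleCat.of A N) (ModuleCat.of A M) i) := by
  rcases subsingleton_or_nontrivial M with hM | hM
  · have h0 : IsZero (ModuleCat.of A M) := ModuleCat.isZero_iff_subsingleton.2 hM
    exact subsingleton_of_forall_eq 0 fun z => by
      rw [← Abelian.Ext.comp_mk₀_id z, h0.eq_of_src (𝟙 _) 0, Abelian.Ext.mk₀_zero, Abelian.Ext.comp_zero]
  rcases subsingleton_or_nontrivial N with hN | hN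
  · have h0 : IsZero (ModuleCat.of A N) := ModuleCat.isZero_iff_subsingleton.2 hN
    exact subsingleton_of_forall_eq 0 fun z => by
      rw [← Abelian.Ext.mk₀_id_comp z, h0.eq_of_src (𝟙 _) 0, Abelian.Ext.mk₀_zero, Abelian.Ext.zero_comp]
  let I := Module.annihilator A N
  have hne := LC.smul_top_ne_top_of_le_maximal (M := M) (annihilator_le_maximal (A := A) N)
  have hd : (n : ℕ∞) ≤ LocCoh.idealDepth I M := by
    rw [LC.idealDepth_eq_iInf_depth]
    refine le_iInf₂ fun q hq => h q ?_
    rw [Module.support_eq_zeroLocus]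
    exact hq
  obtain ⟨rs, hreg, hmem, hlen⟩ := Alg6.exists_length_ge_of_le_idealDepth hne hd
  refine ModuleCat.subsingleton_ext_of_exists_isRegular I (ModuleCat.of A N) Module.support_eq_zeroLocus.subset
    (ModuleCat.of A M) hne.lt_top rs hmem ⟨hreg, ?_⟩ i (hi.trans_le hlen)
  intro htop
  exact hne (top_le_iff.1 (htop.le.trans (Submodule.smul_mono_left (Ideal.span_le.2 fun r hr => hmem r hr))))

end Algebra

open H23.StalkPrimes CDiv6

variable {X : Scheme.{u}}

/-- The depth of a stalk at a generalization is the depth of the localization. -/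
theorem depth_stalk_eq {F : X.Modules} (hF : Coh.IsQCoh F) {x ξ : X} (h : ξ ⤳ x) :
    LocCoh.depth (Localization.AtPrime (primeOf h).asIdeal)
        (LocalizedModule (primeOf h).asIdeal.primeCompl (F.presheaf.stalk x)) =
      LocCoh.depth (X.presheaf.stalk ξ) (F.presheaf.stalk ξ) := by
  obtain ⟨_, ⟨U, hU, rfl⟩, hx, -⟩ :=
    X.isBasis_affineOpens.exists_subset_of_mem_open (Set.mem_univ x) isOpen_univ
  have hU' : IsAffineOpen U := hU
  have hξ : ξ ∈ U := h.mem_open U.2 hx
  have hgs : ∀ a : Γ(X, U), (X.presheaf.stalkSpecializes h).hom (X.presheaf.germ U x hx a) =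
      X.presheaf.germ U ξ hξ a := fun a => TopCat.Presheaf.germ_stalkSpecializes_apply _ _ _ _
  let σ := (X.presheaf.stalkSpecializes h).hom
  letI : Algebra (X.presheaf.stalk x) (X.presheaf.stalk ξ) := σ.toAlgebra
  letI : Module (X.presheaf.stalk x) (F.presheaf.stalk ξ) := Module.compHom _ σ
  let S := (primeOf h).asIdeal.primeCompl
  let g : F.presheaf.stalk x →ₗ[X.presheaf.stalk x] F.presheaf.stalk ξ :=
    { toFun := F.presheaf.stalkSpecializes h
      map_add' := map_add _
      map_smul' := fun r m => H23.ZeroSec.stalkSpecializes_smul F h r m }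
  have hmem : ∀ r : X.presheaf.stalk x, r ∈ S ↔ IsUnit (σ r) := fun r => by
    show r ∉ (primeOf h).asIdeal ↔ _
    rw [mem_primeOf, not_not]
  have hmemU : ∀ a : Γ(X, U), a ∈ (hU'.primeIdealOf ⟨ξ, hξ⟩).asIdeal.primeCompl →
      X.presheaf.germ U x hx a ∈ S := fun a ha => by
    refine (hmem _).2 ?_
    rw [show σ (X.presheaf.germ U x hx a) = _ from hgs a]
    exact (X.mem_basicOpen _ ξ hξ).1 ((QCoh.mem_basicOpen_iff_notMem hU' hξ _).2 ha)
  haveI : IsLocalizedModule S g := by
    refine ⟨fun s => ?_, fun y => ?_, fun {a b} hab => ?_⟩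
    · rw [Module.End.isUnit_iff]
      have hu := (hmem _).1 s.2
      refine ⟨fun a b hab => hu.smul_left_cancel.1 hab, fun b => ⟨hu.unit⁻¹.val • b, ?_⟩⟩
      show σ s.1 • hu.unit⁻¹.val • b = b
      rw [← mul_smul, IsUnit.mul_val_inv, one_smul]
    · letI := QCoh.stalkModule F hξ
      haveI := QCoh.isLocalizedModule_germLin hF hU' hξ
      obtain ⟨⟨m, a⟩, ha⟩ := IsLocalizedModule.surj (hU'.primeIdealOf ⟨ξ, hξ⟩).asIdeal.primeCompl
        (QCoh.germLin F hξ) y
      refine ⟨(F.presheaf.germ U x hx m, ⟨X.presheaf.germ U x hx a, hmemU a a.2⟩), ?_⟩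
      show σ (X.presheaf.germ U x hx a) • y = F.presheaf.stalkSpecializes h (F.presheaf.germ U x hx m)
      rw [TopCat.Presheaf.germ_stalkSpecializes_apply]
      erw [TopCat.Presheaf.germ_stalkSpecializes_apply]
      exact ha
    · letI := QCoh.stalkModule F hx
      haveI := QCoh.isLocalizedModule_germLin hF hU' hx
      obtain ⟨⟨m, s⟩, hs⟩ := IsLocalizedModule.surj (hU'.primeIdealOf ⟨x, hx⟩).asIdeal.primeCompl
        (QCoh.germLin F hx) (a - b)
      have hs' : X.presheaf.germ U x hx s • (a - b) = F.presheaf.germ U x hx m := hs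
      have h0 : F.presheaf.germ U ξ hξ m = 0 := by
        rw [← TopCat.Presheaf.germ_stalkSpecializes_apply (F := F.presheaf) hx h, ← hs',
          H23.ZeroSec.stalkSpecializes_smul]
        show _ • g (a - b) = 0
        rw [map_sub, hab, sub_self, smul_zero]
      obtain ⟨c, hc, hcm⟩ := (QCoh.germ_eq_zero_iff hF hU' hξ m).1 h0
      refine ⟨⟨X.presheaf.germ U x hx c * X.presheaf.germ U x hx s, S.mul_mem
        (hmemU c ((QCoh.mem_basicOpen_iff_notMem hU' hξ c).1 hc)) ((hmem _).2 (IsUnit.map σ ?_))⟩, ?_⟩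
      · exact (X.mem_basicOpen _ x hx).1 ((QCoh.mem_basicOpen_iff_notMem hU' hx _).2 s.2)
      · refine sub_eq_zero.1 ?_
        rw [Submonoid.smul_def, Submonoid.smul_def, ← smul_sub, mul_smul, hs', ← QCoh.germ_smul', hcm, map_zero]
  haveI := H23.StalkPrimes.isLocalization_primeOf h
  let e := IsLocalization.algEquiv S (Localization.AtPrime (primeOf h).asIdeal) (X.presheaf.stalk ξ)
  let Lc := Localization.AtPrime (primeOf h).asIdeal
  letI : Module Lc (F.presheaf.stalk ξ) := Module.compHom _ e.toRingHom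
  letI : Algebra Lc (X.presheaf.stalk ξ) := e.toRingHom.toAlgebra
  haveI : IsScalarTower Lc (X.presheaf.stalk ξ) (F.presheaf.stalk ξ) :=
    IsScalarTower.of_algebraMap_smul fun _ _ => rfl
  haveI : IsScalarTower (X.presheaf.stalk x) Lc (F.presheaf.stalk ξ) :=
    IsScalarTower.of_algebraMap_smul fun r m => by
      show e (algebraMap _ Lc r) • m = σ r • m
      rw [AlgEquiv.commutes]
      rfl
  let L := (IsLocalizedModule.iso S g).extendScalarsOfIsLocalization S Lc
  exact Alg6.depth_eq_of_semilinear e.toRingHom e.surjective L.toAddEquiv fun r m => L.map_smul r m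

variable [IsLocallyNoetherian X] [HasInjectiveResolutions (ModSite.Mod X.sheaf)]

/-- Depth along a closed set containing the support kills `extSh`. -/
theorem isZero_extSh_of_depth {F G : X.Modules} (hF : Coh.IsCoh F) (hG : Coh.IsCoh G)
    [ModSite.HasSheafHom (O := X.sheaf) G] (n : ℕ)
    (h : ∀ y ∈ CohB1.support G, (n : ℕ∞) ≤ LocCoh.depth (X.presheaf.stalk y) (F.presheaf.stalk y))
    {i : ℕ} (hi : i < n) : IsZero ((ModSite.extSh (O := X.sheaf) G i).obj F) := by
  refine (isZero_extSh_iff G (QCoh.isCoh_iff_isFP.1 hG) i F).2 fun x => ?_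
  haveI := IntMult63.finite_stalk hF x
  haveI := IntMult63.finite_stalk hG x
  refine subsingleton_ext_of_depth (F.presheaf.stalk x) (G.presheaf.stalk x) n (fun q hq => ?_) i hi
  obtain ⟨ξ, hs, hξ⟩ := exists_point q.asIdeal
  obtain rfl : q = primeOf hs := PrimeSpectrum.ext hξ.symm
  rw [depth_stalk_eq hF.1 hs]
  exact h ξ (not_subsingleton_iff_nontrivial.2 ((IntMult63.mem_support_primeOf hG hs).1 hq))

/-- Vanishing of `extSh` out of `G` bounds the depth on the support of `G`. -/
theorem le_depth_of_extSh {F G : X.Modules} (hF : Coh.IsCoh F) (hG : Coh.IsCoh G)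
    [ModSite.HasSheafHom (O := X.sheaf) G] (n : ℕ)
    (h : ∀ i < n, IsZero ((ModSite.extSh (O := X.sheaf) G i).obj F)) {x : X} (hx : x ∈ CohB1.support G) :
    (n : ℕ∞) ≤ LocCoh.depth (X.presheaf.stalk x) (F.presheaf.stalk x) := by
  haveI := IntMult63.finite_stalk hF x
  haveI := IntMult63.finite_stalk hG x
  haveI : Nontrivial (G.presheaf.stalk x) := not_subsingleton_iff_nontrivial.1 hx
  exact le_depth_of_ext (F.presheaf.stalk x) (G.presheaf.stalk x) n fun i hi =>
    (isZero_extSh_iff G (QCoh.isCoh_iff_isFP.1 hG) i F).1 (h i hi) x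

omit [HasInjectiveResolutions (ModSite.Mod X.sheaf)] in
/-- A closed set is the support of a coherent module. -/
theorem exists_isCoh_support_eq (U : X.Opens) :
    ∃ G : X.Modules, Coh.IsCoh G ∧ CohB1.support G = (U : Set ↥X)ᶜ := by
  let I := Scheme.IdealSheafData.vanishingIdeal (X := X) ⟨(U : Set ↥X)ᶜ, U.2.isClosed_compl⟩
  have hr : Set.range I.subschemeι = (U : Set ↥X)ᶜ := by
    rw [I.range_subschemeι, Scheme.IdealSheafData.coe_support_vanishingIdeal]
    rfl
  refine ⟨_, isCoh_push_structureModule I.subschemeι, Set.ext fun y => ?_⟩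
  rw [← hr]
  constructor
  · intro hy
    by_contra hn
    exact hy (AddCommGrpCat.isZero_iff_subsingleton.1 (KFlatLib.isZero_stalk_push I.subschemeι y hn _))
  · rintro ⟨z, rfl⟩ hs
    haveI := KFlatLib.isIso_stalkPushforward_closed I.subschemeι (Coh.structureModule I.subscheme) z
    haveI : Subsingleton ↑(((TopCat.Presheaf.pushforward Ab I.subschemeι.base).obj (Coh.structureModule I.subscheme).presheaf).stalk (I.subschemeι z)) := hs
    haveI : Subsingleton ((Coh.structureModule I.subscheme).presheaf.stalk z) :=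
      (asIso (TopCat.Presheaf.stalkPushforward Ab.{u} I.subschemeι.base (Coh.structureModule I.subscheme).presheaf z)).addCommGroupIsoToAddEquiv.symm.toEquiv.subsingleton
    exact not_subsingleton (I.subscheme.presheaf.stalk z) (RefX.unitStalk z).toEquiv.subsingleton

end Groth.Agent.PD70
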