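import Groth.Agent.PD70.HomTwist
import Groth.Agent.VB70.Split
import Groth.Agent.KFlatLib.Scheme.Exact
import Groth.Agent.MiscSh16.StalkBij
import Groth.Agent.QCoh.Support

/-!
# `Ext` into large twists and `Ext` at the stalks

For a coherent module `F` on `P^n_k`, `Ext^j(F, O(d))` vanishes for all large `d` iff
`Ext^j(F_x, O_x)` vanishes at all closed points, iff at all points.
-/

universe u

set_option backward.isDefEq.respectTransparency false
set_option backward.isDefEq.respectTransparency.types false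
set_option linter.style.haveILetI false
set_option maxHeartbeats 1000000

open CategoryTheory CategoryTheory.Limits AlgebraicGeometry TopologicalSpace Opposite
open CategoryTheory.Abelian
open Groth.Agent.BunLib68

noncomputable section

namespace Groth.Agent.PD70

section Generic

variable {C : Type*} [Category C] [Abelian C] [HasExt C] {S : ShortComplex C} (hS : S.ShortExact) {Y : C}

include hS in
/-- Dimension shifting. -/
theorem subsingleton_ext_succ_iff {i : ℕ} (h : Subsingleton (Ext S.X₂ Y i)) (h' : Subsingleton (Ext S.X₂ Y (i + 1))) :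
    Subsingleton (Ext S.X₃ Y (i + 1)) ↔ Subsingleton (Ext S.X₁ Y i) := by
  constructor
  · intro hs
    refine subsingleton_of_forall_eq 0 fun x => ?_
    obtain ⟨y, rfl⟩ := Ext.contravariant_sequence_exact₁ hS Y x (show 1 + i = i + 1 by omega) (Subsingleton.elim _ _)
    rw [Subsingleton.elim y 0, Ext.comp_zero]
  · intro hs
    refine subsingleton_of_forall_eq 0 fun x => ?_
    obtain ⟨y, rfl⟩ := Ext.contravariant_sequence_exact₃ hS Y x (Subsingleton.elim _ _) (show 1 + i = i + 1 by omega)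
    rw [Subsingleton.elim y 0, Ext.comp_zero]

include hS in
/-- `Ext¹` vanishes iff morphisms extend. -/
theorem subsingleton_ext_one_iff (h : Subsingleton (Ext S.X₂ Y 1)) :
    Subsingleton (Ext S.X₃ Y 1) ↔ ∀ φ : S.X₁ ⟶ Y, ∃ ψ : S.X₂ ⟶ Y, S.f ≫ ψ = φ := by
  constructor
  · intro hs φ
    obtain ⟨y, hy⟩ := Ext.contravariant_sequence_exact₁ hS Y (Ext.mk₀ φ) (show 1 + 0 = 1 from rfl) (Subsingleton.elim _ _)
    obtain ⟨ψ, rfl⟩ := (Ext.mk₀_bijective _ _).2 y
    rw [Ext.mk₀_comp_mk₀] at hy
    exact ⟨ψ, (Ext.mk₀_bijective _ _).1 hy⟩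
  · intro hext
    refine subsingleton_of_forall_eq 0 fun x => ?_
    obtain ⟨y, rfl⟩ := Ext.contravariant_sequence_exact₃ hS Y x (Subsingleton.elim _ _) (show 1 + 0 = 1 from rfl)
    obtain ⟨φ, rfl⟩ := (Ext.mk₀_bijective _ _).2 y
    obtain ⟨ψ, rfl⟩ := hext φ
    rw [← Ext.mk₀_comp_mk₀, ← Ext.comp_assoc_of_second_deg_zero, hS.extClass_comp, Ext.zero_comp]

theorem subsingleton_ext_of_decomp {E : C} {ι : Type*} [Fintype ι] (T : ι → C)
    (p : ∀ a, E ⟶ T a) (q : ∀ a, T a ⟶ E) (h : ∑ a, p a ≫ q a = 𝟙 E) (n : ℕ)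
    (hT : ∀ a, Subsingleton (Ext (T a) Y n)) : Subsingleton (Ext E Y n) := by
  classical
  refine subsingleton_of_forall_eq 0 fun x => ?_
  have h1 : ∀ a, (Ext.mk₀ (p a ≫ q a)).comp x (zero_add n) = 0 := fun a => by
    rw [← Ext.mk₀_comp_mk₀_assoc, (hT a).elim ((Ext.mk₀ (q a)).comp x (zero_add n)) 0, Ext.comp_zero]
  have h2 : ∀ s : Finset ι, (Ext.mk₀ (∑ a ∈ s, p a ≫ q a)).comp x (zero_add n) = 0 := fun s => by
    induction s using Finset.induction with
    | empty => rw [Finset.sum_empty, Ext.mk₀_zero, Ext.zero_comp]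
    | insert a s ha ih => rw [Finset.sum_insert ha, Ext.mk₀_add, Ext.add_comp, h1, ih, add_zero]
  have h3 := h2 Finset.univ
  rwa [h, Ext.mk₀_id_comp] at h3

end Generic

variable {k : Type u} [Field k] {n : ℕ}

/-- The stalk, as an object of `ModuleCat`. -/
abbrev St (x : ↥(CohB1.ProjSpace n k)) (F : (CohB1.ProjSpace n k).Modules) :
    ModuleCat.{u} ((CohB1.ProjSpace n k).presheaf.stalk x) :=
  (DerSch.stalkFunctor (CohB1.ProjSpace n k) x).obj F

/-- The local ring, as an object of `ModuleCat`. -/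
abbrev Rx (x : ↥(CohB1.ProjSpace n k)) : ModuleCat.{u} ((CohB1.ProjSpace n k).presheaf.stalk x) :=
  ModuleCat.of _ ((CohB1.ProjSpace n k).presheaf.stalk x)

/-- Vanishing of `Ext^j(F, O(d))` for all large `d`. -/
def EVan (j : ℕ) (F : (CohB1.ProjSpace n k).Modules) : Prop :=
  ∃ d₀ : ℤ, ∀ d, d₀ ≤ d → Subsingleton (Ext F (O n k d) j)

/-- Vanishing of `Ext^j` at the stalks of all points. -/
def SVan (j : ℕ) (F : (CohB1.ProjSpace n k).Modules) : Prop :=
  ∀ x, Subsingleton (Ext (St x F) (Rx x) j)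

/-- Vanishing of `Ext^j` at the stalks of closed points. -/
def SVanC (j : ℕ) (F : (CohB1.ProjSpace n k).Modules) : Prop :=
  ∀ x : ↥(CohB1.ProjSpace n k), IsClosed ({x} : Set _) → Subsingleton (Ext (St x F) (Rx x) j)

variable {F G : (CohB1.ProjSpace n k).Modules}

theorem isCoh_of_goodPn (hF : PnDual.GoodPn F) : Coh.IsCoh F := by
  haveI hP : IsNoetherian (Proj (CohB1.polyGrading n k)) := Proj16.isNoetherian_proj _
  refine QCoh.isCoh_iff_isFP.2 (QCoh.isFP_of_finitePresentation (X := Proj (CohB1.polyGrading n k)) hF.1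
    (fun j => PnCoh.Finite.D (CohB1.polyGrading n k) (PnDual.coordsR k n j)) PnDual.coordsR_cover
    (fun j => PnCoh.Finite.isAffineOpen_D PnDual.coordsR_mem j) fun j => ?_)
  haveI := PnDual.coordsR_noetherian (R := k) (m := n) j
  haveI := hF.2 j
  exact Module.finitePresentation_of_finite _ _

theorem isCoh_of_decomp {E : (CohB1.ProjSpace n k).Modules} {ι : Type u} [Fintype ι] (d : ι → ℤ)
    (p : ∀ a, E ⟶ O n k (d a)) (q : ∀ a, O n k (d a) ⟶ E) (h : ∑ a, p a ≫ q a = 𝟙 E) : Coh.IsCoh E := by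
  classical
  haveI := QCoh.hasFiniteBiproducts (CohB1.ProjSpace n k)
  let B := ⨁ fun a => O n k (d a)
  let s : E ⟶ B := biproduct.lift p
  let r : B ⟶ E := biproduct.desc q
  have hsr : s ≫ r = 𝟙 E := by
    refine Eq.trans ?_ h
    calc s ≫ r = s ≫ (∑ a, biproduct.π (fun a => O n k (d a)) a ≫ biproduct.ι (fun a => O n k (d a)) a) ≫ r := by
          rw [PnCoh.Finite.biproduct_total, Category.id_comp]
      _ = ∑ a, p a ≫ q a := by simp [s, r, Preadditive.comp_sum, Preadditive.sum_comp]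
  have hB : Coh.IsCoh B := QCoh.isCoh_biproduct _ fun a => isCoh_O (d a)
  have hk := QCoh.isCoh_kernel hB hB (𝟙 B - r ≫ s)
  have hw : s ≫ (𝟙 B - r ≫ s) = 0 := by rw [Preadditive.comp_sub, Category.comp_id, ← Category.assoc, hsr, Category.id_comp, sub_self]
  let hl : IsLimit (KernelFork.ofι s hw) := KernelFork.IsLimit.ofι _ _ (fun g _ => g ≫ r)
    (fun g hg => by
      rw [Preadditive.comp_sub, Category.comp_id, sub_eq_zero] at hg
      rw [Category.assoc, ← hg])
    (fun g hg m hm => by rw [← hm, Category.assoc, hsr, Category.comp_id])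
  exact SheafHomX.isCoh_of_iso ((kernelIsKernel _).conePointUniqueUpToIso hl) hk

/-- A zero test on closed points. -/
theorem subsingleton_stalk_of_closed (hG : Coh.IsCoh G)
    (h : ∀ x : ↥(CohB1.ProjSpace n k), IsClosed ({x} : Set _) → Subsingleton (G.presheaf.stalk x))
    (x : ↥(CohB1.ProjSpace n k)) : Subsingleton (G.presheaf.stalk x) := by
  haveI hP : IsNoetherian (Proj (CohB1.polyGrading n k)) := Proj16.isNoetherian_proj _
  haveI : CompactSpace ↥(CohB1.ProjSpace n k) := inferInstanceAs (CompactSpace ↥(Proj (CohB1.polyGrading n k)))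
  have hopen := MiscSh16.isOpen_bijective_locus hG hG (0 : G ⟶ G)
  have h0 : ∀ y, ∀ v, RefHull.stalkMapₗ (0 : G ⟶ G) y v = 0 := fun y v => by
    rw [stalkMapₗ_eq, Functor.map_zero]; rfl
  have hiff : ∀ y, Function.Bijective (RefHull.stalkMapₗ (0 : G ⟶ G) y) ↔ Subsingleton (G.presheaf.stalk y) :=
    fun y => ⟨fun hb => subsingleton_of_forall_eq 0 fun v => hb.1 ((h0 y v).trans (h0 y 0).symm),
      fun _ => ⟨Function.injective_of_subsingleton _, fun v => ⟨0, Subsingleton.elim _ _⟩⟩⟩
  obtain ⟨z, hz, hzc⟩ := IsClosed.exists_closed_singleton (isClosed_closure (s := {x})) ⟨x, subset_closure rfl⟩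
  exact (hiff x).1 (hopen.stableUnderGeneralization (specializes_iff_mem_closure.2 hz) ((hiff z).2 (h z hzc)))

theorem hom_free_eq_zero {X : Scheme.{u}} {ι : Type u} {A B : X.Modules}
    (p : (SheafOfModules.free ι : X.Modules) ⟶ A) (φ : A ⟶ B) [Epi p]
    (h : ∀ g : SheafOfModules.unit X.ringCatSheaf ⟶ A, g ≫ φ = 0) : φ = 0 := by
  refine (cancel_epi p).1 ?_
  rw [comp_zero]
  refine Cofan.IsColimit.hom_ext (SheafOfModules.isColimitFreeCofan ι) _ _ fun i => ?_
  rw [comp_zero, ← Category.assoc]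
  exact h _

theorem eq_zero_of_generated {X : Scheme.{u}} {A B : X.Modules} (hA : Curv2.IsGloballyGenerated A) (φ : A ⟶ B)
    (h : ∀ s : Γ(A, ⊤), φ.app ⊤ s = 0) : φ = 0 := by
  obtain ⟨ι, p, hp⟩ := hA
  refine hom_free_eq_zero p φ fun g => ?_
  let g' : Coh.structureModule X ⟶ A := g
  refine Scheme.Modules.hom_ext (g' ≫ φ) 0 fun U => AddCommGrpCat.ext fun (r : Γ(Coh.structureModule X, U)) => ?_
  have e : r = (show Γ(X, U) from r) • AModX.res (Coh.structureModule X) (le_top : U ≤ ⊤) (show Γ(Coh.structureModule X, ⊤) from (1 : Γ(X, ⊤))) := by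
    show (show Γ(X, U) from r) = (show Γ(X, U) from r) * (X.presheaf.map (homOfLE le_top).op).hom 1
    rw [map_one, mul_one]
  show φ.app U (g'.app U r) = 0
  rw [e, Scheme.Modules.Hom.app_smul, Scheme.Modules.Hom.app_smul, AModX.app_res, AModX.app_res, h, map_zero, smul_zero]

/-- Stalks of `Hom(F, O(d))` are the homomorphisms of stalks into the local ring. -/
theorem exists_stalkHomEquiv (hF : Coh.IsCoh F) (d : ℤ) (x : ↥(CohB1.ProjSpace n k)) :
    Nonempty ((RefHull.homSh F (O n k d)).presheaf.stalk x ≃ₗ[(CohB1.ProjSpace n k).presheaf.stalk x]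
      (St x F ⟶ Rx x)) := by
  obtain ⟨e⟩ := exists_stalkO d x
  exact ⟨(LinearEquiv.ofBijective _ (RefX.evalStalk_bijective (G := O n k d) (QCoh.isCoh_iff_isFP.1 hF) x)).trans
    ((e.congrRight).trans (ModuleCat.homLinearEquiv (S := (CohB1.ProjSpace n k).presheaf.stalk x) (M := St x F) (N := Rx x)).symm)⟩
where
  exists_stalkO (d : ℤ) (x : ↥(CohB1.ProjSpace n k)) :
      Nonempty ((O n k d).presheaf.stalk x ≃ₗ[(CohB1.ProjSpace n k).presheaf.stalk x]
        (CohB1.ProjSpace n k).presheaf.stalk x) := by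
    obtain ⟨U, hx, e, he⟩ := InvX.exists_frame
      (PnCoh.Finite.isInvertible_twist (PnDual.coordsR k n) PnDual.coordsR_mem PnDual.coordsR_cover d :
        PicF.IsInvertible (O n k d)) x
    exact ⟨(LinearEquiv.ofBijective (LinearMap.toSpanSingleton _ _ _) (he.germ_bijective hx)).symm⟩

theorem evan_zero_iff (hF : Coh.IsCoh F) : (EVan 0 F → SVan 0 F) ∧ (SVanC 0 F → EVan 0 F) := by
  constructor
  · rintro ⟨d₀, h⟩ x
    obtain ⟨d₁, h₁⟩ := eventually_generated_homSh hF
    set d := max d₀ d₁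
    haveI := h d (le_max_left _ _)
    haveI : Subsingleton (F ⟶ O n k d) := (Ext.addEquiv₀ (X := F) (Y := O n k d)).symm.toEquiv.subsingleton
    have hid : 𝟙 (RefHull.homSh F (O n k d)) = 0 := eq_zero_of_generated (h₁ d (le_max_right _ _)) _ fun s => by
      show s = 0
      exact BunLib68.homEquiv.injective (Subsingleton.elim _ _)
    haveI : Subsingleton ((RefHull.homSh F (O n k d)).presheaf.stalk x) := subsingleton_of_forall_eq 0 fun v => by
      have := congrArg (fun φ => RefHull.stalkMapₗ φ x v) hid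
      simp only [BunLib68.stalkMapₗ_id, LinearMap.id_apply] at this
      rw [this, BunLib68.stalkMapₗ_eq, Functor.map_zero]; rfl
    obtain ⟨e⟩ := exists_stalkHomEquiv hF d x
    haveI : Subsingleton (St x F ⟶ Rx x) := e.symm.toEquiv.subsingleton
    exact (Ext.addEquiv₀ (X := St x F) (Y := Rx x)).toEquiv.subsingleton
  · intro h
    refine ⟨0, fun d _ => ?_⟩
    suffices Subsingleton (F ⟶ O n k d) from (Ext.addEquiv₀ (X := F) (Y := O n k d)).toEquiv.subsingleton
    have hall : ∀ x, Subsingleton ((RefHull.homSh F (O n k d)).presheaf.stalk x) :=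
      subsingleton_stalk_of_closed (isCoh_homSh_O hF d) fun x hx => by
        haveI := h x hx
        haveI : Subsingleton (St x F ⟶ Rx x) := (Ext.addEquiv₀ (X := St x F) (Y := Rx x)).symm.toEquiv.subsingleton
        obtain ⟨e⟩ := exists_stalkHomEquiv hF d x
        exact e.toEquiv.subsingleton
    haveI : Subsingleton Γ(RefHull.homSh F (O n k d), ⊤) := ⟨fun s t =>
      ZClosLib.section_ext _ _ _ fun y hy => (hall y).elim _ _⟩
    exact BunLib68.homEquiv.symm.toEquiv.subsingleton

/-- The criterion for morphisms extending along a monomorphism. -/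
theorem surjective_comap_iff {K E : (CohB1.ProjSpace n k).Modules} (hK : Coh.IsCoh K) (hE : Coh.IsCoh E)
    (f : K ⟶ E) (d : ℤ) (x : ↥(CohB1.ProjSpace n k)) :
    Function.Surjective (RefHull.stalkMapₗ (comap (O n k d) f) x) ↔
      ∀ θ : St x K ⟶ Rx x, ∃ η : St x E ⟶ Rx x, (DerSch.stalkFunctor _ x).map f ≫ η = θ := by
  obtain ⟨e⟩ := exists_stalkHomEquiv.exists_stalkO (k := k) (n := n) d x
  have hK' := RefX.evalStalk_bijective (G := O n k d) (QCoh.isCoh_iff_isFP.1 hK) x
  have hE' := RefX.evalStalk_bijective (G := O n k d) (QCoh.isCoh_iff_isFP.1 hE) x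
  constructor
  · intro hs θ
    obtain ⟨a, ha⟩ := hK'.2 (e.symm.toLinearMap.comp θ.hom)
    obtain ⟨b, rfl⟩ := hs a
    rw [evalStalk_comap] at ha
    refine ⟨ModuleCat.ofHom (e.toLinearMap.comp (RefHull.evalStalk E (O n k d) x b)),
      ModuleCat.hom_ext (LinearMap.ext fun v => ?_)⟩
    have := congrArg e (LinearMap.congr_fun ha v)
    exact this.trans (e.apply_symm_apply _)
  · intro h a
    obtain ⟨η, hη⟩ := h (ModuleCat.ofHom (e.toLinearMap.comp (RefHull.evalStalk K (O n k d) x a)))
    obtain ⟨b, hb⟩ := hE'.2 (e.symm.toLinearMap.comp η.hom)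
    refine ⟨b, hK'.1 ?_⟩
    rw [evalStalk_comap, hb]
    refine LinearMap.ext fun v => e.injective ?_
    have := LinearMap.congr_fun (congrArg ModuleCat.Hom.hom hη) v
    exact (e.apply_symm_apply _).trans this

/-- `Hom(-, G)` is left exact, at the stalks. -/
theorem exact_stalk_comap {S : ShortComplex (CohB1.ProjSpace n k).Modules} (hS : S.ShortExact)
    (h2 : Coh.IsCoh S.X₂) (h3 : Coh.IsCoh S.X₃) (d : ℤ) :
    ∃ w : comap (O n k d) S.g ≫ comap (O n k d) S.f = 0,
      ∀ x, Function.Injective (RefHull.stalkMapₗ (comap (O n k d) S.g) x) ∧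
        Function.Exact (RefHull.stalkMapₗ (comap (O n k d) S.g) x) (RefHull.stalkMapₗ (comap (O n k d) S.f) x) := by
  have w : comap (O n k d) S.g ≫ comap (O n k d) S.f = 0 := by
    rw [← comap_comp, S.zero]
    exact hom_ext_homSh fun U f y => by
      show (f.1 y).comp (RefHull.stalkMapₗ (0 : S.X₁ ⟶ S.X₃) y.1) = 0
      rw [stalkMapₗ_eq, Functor.map_zero]; exact LinearMap.comp_zero _
  refine ⟨w, fun x => ?_⟩
  have hx := (KFlatLib.shortExact_iff_stalk S).1 hS x
  have hsurj : Function.Surjective (RefHull.stalkMapₗ S.g x) := hx.moduleCat_surjective_g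
  have hex : Function.Exact (RefHull.stalkMapₗ S.f x) (RefHull.stalkMapₗ S.g x) :=
    (ShortComplex.ShortExact.moduleCat_exact_iff_function_exact _).1 hx.exact
  have h2' := RefX.evalStalk_bijective (G := O n k d) (QCoh.isCoh_iff_isFP.1 h2) x
  have h3' := RefX.evalStalk_bijective (G := O n k d) (QCoh.isCoh_iff_isFP.1 h3) x
  constructor
  · intro a b hab
    refine h3'.1 (LinearMap.ext fun v => ?_)
    obtain ⟨v, rfl⟩ := hsurj v
    have := congrArg (RefHull.evalStalk S.X₂ (O n k d) x) hab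
    rw [evalStalk_comap, evalStalk_comap] at this
    exact LinearMap.congr_fun this v
  · intro θ
    constructor
    · intro hθ
      have h0 : (RefHull.evalStalk S.X₂ (O n k d) x θ).comp (RefHull.stalkMapₗ S.f x) = 0 := by
        rw [← evalStalk_comap, hθ, map_zero]
      have hker : LinearMap.ker (RefHull.stalkMapₗ S.g x) ≤ LinearMap.ker (RefHull.evalStalk S.X₂ (O n k d) x θ) :=
        fun v hv => by
          obtain ⟨p, rfl⟩ := (hex v).1 hv
          exact LinearMap.congr_fun h0 p
      obtain ⟨η, hη⟩ := h3'.2 (((LinearMap.ker (RefHull.stalkMapₗ S.g x)).liftQ _ hker).comp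
        (LinearMap.quotKerEquivOfSurjective _ hsurj).symm.toLinearMap)
      refine ⟨η, h2'.1 ((evalStalk_comap S.g x η).trans (LinearMap.ext fun v => ?_))⟩
      rw [hη, LinearMap.comp_apply, LinearMap.comp_apply, LinearEquiv.coe_coe,
        show (LinearMap.quotKerEquivOfSurjective _ hsurj).symm (RefHull.stalkMapₗ S.g x v) = Submodule.Quotient.mk v from
          (LinearMap.quotKerEquivOfSurjective _ hsurj).symm_apply_eq.2 rfl, Submodule.liftQ_apply]
    · rintro ⟨η, rfl⟩
      rw [← LinearMap.comp_apply, ← stalkMapₗ_comp, w, stalkMapₗ_eq, Functor.map_zero]; rfl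

theorem subsingleton_ext_O_large {ι : Type u} [Fintype ι] (e : ι → ℤ) {E : (CohB1.ProjSpace n k).Modules}
    (p : ∀ a, E ⟶ O n k (e a)) (q : ∀ a, O n k (e a) ⟶ E) (h : ∑ a, p a ≫ q a = 𝟙 E) :
    ∃ d₀ : ℤ, ∀ d, d₀ ≤ d → ∀ i, 0 < i → Subsingleton (Ext E (O n k d) i) := by
  refine ⟨∑ a, |e a|, fun d hd i hi => subsingleton_ext_of_decomp _ p q h i fun a => ?_⟩
  have h1 : |e a| ≤ ∑ b, |e b| := Finset.single_le_sum (f := fun b => |e b|) (fun b _ => abs_nonneg _) (Finset.mem_univ a)
  have h2 := le_abs_self (e a)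
  exact PnDual.subsingleton_ext_twist (PnDual.coordsR k n) PnDual.coordsR_mem PnDual.coordsR_cover (e a) d i
    (S0844.result k n (d - e a) i (fun h => by omega) (fun h => by omega))

theorem subsingleton_ext_stalk {ι : Type u} [Fintype ι] (e : ι → ℤ) {E : (CohB1.ProjSpace n k).Modules}
    (p : ∀ a, E ⟶ O n k (e a)) (q : ∀ a, O n k (e a) ⟶ E) (h : ∑ a, p a ≫ q a = 𝟙 E)
    (x : ↥(CohB1.ProjSpace n k)) {i : ℕ} (hi : 0 < i) : Subsingleton (Ext (St x E) (Rx x) i) := by
  refine subsingleton_ext_of_decomp (fun a => St x (O n k (e a)))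
    (fun a => (DerSch.stalkFunctor _ x).map (p a)) (fun a => (DerSch.stalkFunctor _ x).map (q a)) ?_ i fun a => ?_
  · simp only [← Functor.map_comp, ← Functor.map_sum, h, CategoryTheory.Functor.map_id]
  · haveI : Module.Projective ((CohB1.ProjSpace n k).presheaf.stalk x) ((O n k (e a)).presheaf.stalk x) :=
      haveI := QCoh.free_stalk_of_isFinLocFree (isFinLocFree_O (k := k) (n := n) (e a)) x
      inferInstance
    haveI : Projective (St x (O n k (e a))) :=
      (IsProjective.iff_projective ((O n k (e a)).presheaf.stalk x)).1 ‹_›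
    obtain ⟨i, rfl⟩ := Nat.exists_eq_succ_of_ne_zero hi.ne'
    exact subsingleton_of_forall_eq 0 Ext.eq_zero_of_projective

/-- `Ext^j(F, O(d)) = 0` for large `d` iff `Ext^j` vanishes at the stalks. -/
theorem evan_iff : ∀ (j : ℕ) {F : (CohB1.ProjSpace n k).Modules}, Coh.IsCoh F →
    (EVan j F → SVan j F) ∧ (SVanC j F → EVan j F)
  | 0, F, hF => evan_zero_iff hF
  | 1, F, hF => by
    obtain ⟨ι, _, e, -, S, p, q, hS, rfl, hK, hpq⟩ := PnDual.exists_pres_pn (PnDual.goodPn_of_isCoh hF)
    have h1 := isCoh_of_goodPn hK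
    have h2 := isCoh_of_decomp e p q hpq
    obtain ⟨dE, hdE⟩ := subsingleton_ext_O_large e p q hpq
    have hSx := fun x => (KFlatLib.shortExact_iff_stalk S).1 hS x
    constructor
    · rintro ⟨d₀, h⟩ x
      obtain ⟨d₁, hd₁⟩ := eventually_generated_homSh h1
      set d := max d₀ (max d₁ dE)
      have hd0 : d₀ ≤ d := le_max_left _ _
      have hd1 : d₁ ≤ d := (le_max_left _ _).trans (le_max_right _ _)
      have hd2 : dE ≤ d := (le_max_right _ _).trans (le_max_right _ _)
      have hext := (subsingleton_ext_one_iff hS (hdE d hd2 1 one_pos)).1 (h d hd0)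
      let c := comap (O n k d) S.f
      have hπ : cokernel.π c = 0 := eq_zero_of_generated (hd₁ d hd1) _ fun s => by
        obtain ⟨ψ, hψ⟩ := hext (toHom s)
        have hcs : c.app ⊤ (RefHull.ofHom ψ ⊤) = s := by
          refine BunLib68.homEquiv.injective ?_
          show toHom _ = toHom s
          rw [toHom_comap, toHom_ofHom, hψ]
        rw [← hcs]
        exact congrArg (fun φ : _ ⟶ cokernel c => Scheme.Modules.Hom.app φ ⊤ (RefHull.ofHom ψ ⊤)) (cokernel.condition c)
      haveI : Epi c := Abelian.epi_of_cokernel_π_eq_zero c hπ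
      haveI : Epi ((DerSch.stalkFunctor _ x).map c) := inferInstance
      have hs : Function.Surjective (RefHull.stalkMapₗ c x) := (ModuleCat.epi_iff_surjective _).1 ‹_›
      exact (subsingleton_ext_one_iff (hSx x) (subsingleton_ext_stalk e p q hpq x one_pos)).2
        ((surjective_comap_iff h1 h2 S.f d x).1 hs)
    · intro h
      obtain ⟨d₁, hd₁⟩ := eventually_HH_homSh hF one_pos
      refine ⟨max d₁ dE, fun d hd => ?_⟩
      refine (subsingleton_ext_one_iff hS (hdE d ((le_max_right _ _).trans hd) 1 one_pos)).2 fun φ => ?_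
      let c := comap (O n k d) S.f
      obtain ⟨w, hw⟩ := exact_stalk_comap hS h2 hF d
      have hsurjC : ∀ x : ↥(CohB1.ProjSpace n k), IsClosed ({x} : Set _) →
          Function.Surjective (RefHull.stalkMapₗ c x) := fun x hx =>
        (surjective_comap_iff h1 h2 S.f d x).2
          ((subsingleton_ext_one_iff (hSx x) (subsingleton_ext_stalk e p q hpq x one_pos)).1 (h x hx))
      have hQ : ∀ x, Subsingleton ((cokernel c).presheaf.stalk x) :=
        subsingleton_stalk_of_closed (QCoh.isCoh_cokernel (isCoh_homSh_O h2 d).1 (isCoh_homSh_O h1 d) c) fun x hx => by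
          haveI : Epi ((DerSch.stalkFunctor _ x).map c) := (ModuleCat.epi_iff_surjective _).2 (hsurjC x hx)
          have hz : (DerSch.stalkFunctor _ x).map (cokernel.π c) = 0 := by
            rw [← cancel_epi ((DerSch.stalkFunctor _ x).map c), ← Functor.map_comp, cokernel.condition,
              Functor.map_zero, comp_zero]
          refine subsingleton_of_forall_eq 0 fun v => ?_
          obtain ⟨u, rfl⟩ := (ModuleCat.epi_iff_surjective _).1
            (inferInstance : Epi ((DerSch.stalkFunctor _ x).map (cokernel.π c))) v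
          rw [hz]; rfl
      have hsurj : ∀ x, Function.Surjective (RefHull.stalkMapₗ c x) := fun x => by
        have hz : (DerSch.stalkFunctor _ x).map (cokernel.π c) = 0 :=
          ModuleCat.hom_ext (LinearMap.ext fun v => (hQ x).elim _ _)
        haveI : Epi ((DerSch.stalkFunctor _ x).map c) := Abelian.epi_of_cokernel_π_eq_zero _ (by
          rw [← cancel_mono (cokernelComparison c (DerSch.stalkFunctor _ x)), zero_comp, π_comp_cokernelComparison, hz])
        exact (ModuleCat.epi_iff_surjective _).1 ‹_›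
      have hT : (ShortComplex.mk (comap (O n k d) S.g) c w).ShortExact := (KFlatLib.shortExact_iff_stalk _).2 fun x =>
        ShortComplex.ShortExact.mk' ((ShortComplex.ShortExact.moduleCat_exact_iff_function_exact _).2 (hw x).2)
          ((ModuleCat.mono_iff_injective _).2 (hw x).1) ((ModuleCat.epi_iff_surjective _).2 (hsurj x))
      obtain ⟨t, ht⟩ := QCoh.app_top_surjective_of_HH_one hT (hd₁ d ((le_max_left _ _).trans hd)) (RefHull.ofHom φ ⊤)
      refine ⟨toHom t, ?_⟩
      rw [← toHom_comap, ← toHom_ofHom φ]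
      exact congrArg toHom ht
  | j + 2, F, hF => by
    obtain ⟨ι, _, e, -, S, p, q, hS, rfl, hK, hpq⟩ := PnDual.exists_pres_pn (PnDual.goodPn_of_isCoh hF)
    have h1 := isCoh_of_goodPn hK
    have h2 := isCoh_of_decomp e p q hpq
    obtain ⟨dE, hdE⟩ := subsingleton_ext_O_large e p q hpq
    have hSx := fun x => (KFlatLib.shortExact_iff_stalk S).1 hS x
    obtain ⟨ihE, ihS⟩ := evan_iff (j + 1) h1
    have hst : ∀ x, Subsingleton (Ext (St x S.X₃) (Rx x) (j + 1 + 1)) ↔ Subsingleton (Ext (St x S.X₁) (Rx x) (j + 1)) :=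
      fun x => subsingleton_ext_succ_iff (hSx x) (subsingleton_ext_stalk e p q hpq x (Nat.succ_pos _))
        (subsingleton_ext_stalk e p q hpq x (Nat.succ_pos _))
    constructor
    · rintro ⟨d₀, h⟩ x
      refine (hst x).2 (ihE ⟨max d₀ dE, fun d hd => ?_⟩ x)
      exact (subsingleton_ext_succ_iff hS (hdE d ((le_max_right _ _).trans hd) _ (Nat.succ_pos _))
        (hdE d ((le_max_right _ _).trans hd) _ (Nat.succ_pos _))).1 (h d ((le_max_left _ _).trans hd))
    · intro h
      obtain ⟨d₀, hd₀⟩ := ihS fun x hx => (hst x).1 (h x hx)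
      exact ⟨max d₀ dE, fun d hd => (subsingleton_ext_succ_iff hS (hdE d ((le_max_right _ _).trans hd) _ (Nat.succ_pos _))
        (hdE d ((le_max_right _ _).trans hd) _ (Nat.succ_pos _))).2 (hd₀ d ((le_max_left _ _).trans hd))⟩


end Groth.Agent.PD70
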