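import Groth.Agent.BunLib68.Hom
import Groth.Agent.SheafHomX.Smul
import Groth.Agent.KFlatLib.Scheme.PullTensorCx
import Groth.Prelude.Def_ModSite2

/-!
# The internal Hom functor is the sheaf Hom; its stalks
-/

universe u

set_option backward.isDefEq.respectTransparency false
set_option backward.isDefEq.respectTransparency.types false
set_option linter.style.haveILetI false

open CategoryTheory CategoryTheory.Limits AlgebraicGeometry TopologicalSpace Opposite
open Groth.Agent.BunLib68

noncomputable section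

namespace Groth.Agent.PD70

variable {X : Scheme.{u}} (M : X.Modules)

/-- `Hom(M, -)` as a functor. -/
def homFun : X.Modules ⥤ X.Modules where
  obj G := RefHull.homSh M G
  map g := BunLib68.map M g
  map_id _ := BunLib68.map_id
  map_comp g g' := BunLib68.map_comp g g'

/-- Evaluation, as a bilinear map on sections. -/
def evalBilin (G : X.Modules) : H23.TensorDesc.Bilin M (RefHull.homSh M G) G where
  b U m g := RefX.app (le_refl U) g m
  add_left U m m' g := RefX.app_add _ g m m'
  smul_left U r m g := RefX.app_smul _ g r m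
  add_right U m g g' := ZClosLib.section_ext G _ _ fun y hy => by
    rw [map_add, RefX.germ_app, RefX.germ_app, RefX.germ_app]
    rfl
  smul_right U r m g := ZClosLib.section_ext G _ _ fun y hy => by
    rw [QCoh.germ_smul', RefX.germ_app, RefX.germ_app]
    rfl
  res {U V} h m g := ZClosLib.section_ext G _ _ fun y hy => by
    show G.presheaf.germ V y hy (AModX.res G h (RefX.app (le_refl U) g m)) = _
    rw [RefX.germ_res, RefX.germ_app, RefX.germ_app]
    show g.1 ⟨y, h hy⟩ _ = g.1 ⟨y, h hy⟩ (M.presheaf.germ V y hy (AModX.res M h m))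
    rw [RefX.germ_res]

/-- Evaluation. -/
def evalHom (G : X.Modules) : CohB1.tensorMod M (RefHull.homSh M G) ⟶ G :=
  H23.TensorDesc.desc (evalBilin M G)

variable {M}

theorem curry_comp {N P P' : X.Modules} (φ : CohB1.tensorMod M N ⟶ P) (g : P ⟶ P') :
    curry (φ ≫ g) = curry φ ≫ BunLib68.map M g :=
  hom_ext_homSh fun U n y => by
    show (RefHull.stalkMapₗ (φ ≫ g) y.1).comp _ = (RefHull.stalkMapₗ g y.1).comp ((RefHull.stalkMapₗ φ y.1).comp _)
    rw [stalkMapₗ_comp, LinearMap.comp_assoc]

theorem uncurry_curry {N P : X.Modules} (φ : CohB1.tensorMod M N ⟶ P) :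
    (DCoh.tensorBi.obj M).map (curry φ) ≫ evalHom M P = φ := by
  refine SheafHomX.tensor_hom_ext fun U m n => ?_
  have h1 : ((DCoh.tensorBi.obj M).map (curry φ)).app U (QCoh.tmS M N m n) =
      QCoh.tmS M (RefHull.homSh M P) m ((curry φ).app U n) :=
    KFlatLib.tmSh_naturality_right M (curry φ) (U := U) m n
  refine (congrArg ((evalHom M P).app U) h1).trans ?_
  refine (H23.TensorDesc.desc_tmul (evalBilin M P) U m ((curry φ).app U n)).trans ?_
  refine ZClosLib.section_ext P _ _ fun y hy => ?_
  show P.presheaf.germ U y hy (RefX.app (le_refl U) ((curry φ).app U n) m) = _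
  rw [RefX.germ_app]
  show RefHull.stalkMapₗ φ y (stalkPair M N y (N.presheaf.germ U y hy n) (M.presheaf.germ U y hy m)) = _
  rw [stalkPair_germ, RefHull.stalkMapₗ_germ]
  rfl

theorem curry_uncurry {N P : X.Modules} (ψ : N ⟶ RefHull.homSh M P) :
    curry ((DCoh.tensorBi.obj M).map ψ ≫ evalHom M P) = ψ := by
  refine hom_ext_homSh fun U n y => LinearMap.ext fun v => ?_
  obtain ⟨V, hV, m, rfl⟩ := TopCat.Presheaf.exists_germ_eq M.presheaf v
  have hy : y.1 ∈ V ⊓ U := ⟨hV, y.2⟩
  rw [← RefX.germ_res M (inf_le_left : V ⊓ U ≤ V) hy m]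
  generalize AModX.res M (inf_le_left : V ⊓ U ≤ V) m = m'
  show RefHull.stalkMapₗ _ y.1 (stalkPair M N y.1 (N.presheaf.germ U y.1 y.2 n) _) = _
  rw [germ_pair y.1 y.2 hy m' n inf_le_right, RefHull.stalkMapₗ_germ]
  have h1 : ((DCoh.tensorBi.obj M).map ψ).app (V ⊓ U) (SecTwist.tmul M N (V ⊓ U) m' (AModX.res N inf_le_right n)) =
      SecTwist.tmul M (RefHull.homSh M P) (V ⊓ U) m' (ψ.app (V ⊓ U) (AModX.res N inf_le_right n)) :=
    KFlatLib.tmSh_naturality_right M ψ (U := V ⊓ U) m' (AModX.res N inf_le_right n)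
  refine (congrArg (fun t => P.presheaf.germ (V ⊓ U) y.1 hy ((evalHom M P).app (V ⊓ U) t)) h1).trans ?_
  refine (congrArg (P.presheaf.germ (V ⊓ U) y.1 hy) (H23.TensorDesc.desc_tmul (evalBilin M P) (V ⊓ U) m' _)).trans ?_
  show P.presheaf.germ (V ⊓ U) y.1 hy (RefX.app (le_refl (V ⊓ U)) (ψ.app (V ⊓ U) (AModX.res N inf_le_right n)) m') = _
  rw [RefX.germ_app]
  exact congrArg (fun w : Γ(RefHull.homSh M P, V ⊓ U) => w.1 ⟨y.1, hy⟩ (M.presheaf.germ (V ⊓ U) y.1 hy m'))
    (AModX.app_res ψ (inf_le_right : V ⊓ U ≤ U) n)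

variable (M)

/-- `M ⊗ -` is left adjoint to `Hom(M, -)`. -/
def homFunAdj : (DCoh.tensorBi (X := X)).obj M ⊣ homFun M :=
  Adjunction.mkOfHomEquiv
    { homEquiv := fun N P =>
        { toFun := curry
          invFun := fun ψ => (DCoh.tensorBi.obj M).map ψ ≫ evalHom M P
          left_inv := uncurry_curry
          right_inv := curry_uncurry }
      homEquiv_naturality_left_symm := fun f g => by
        show (DCoh.tensorBi.obj M).map (f ≫ g) ≫ _ = _ ≫ (DCoh.tensorBi.obj M).map g ≫ _
        rw [Functor.map_comp, Category.assoc]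
      homEquiv_naturality_right := fun f g => curry_comp f g }

/-- The internal Hom functor of the site is the sheaf Hom. -/
def sheafHomIsoHomFun [ModSite.HasSheafHom (O := X.sheaf) M] :
    (ModSite.sheafHom (O := X.sheaf) M : X.Modules ⥤ X.Modules) ≅ homFun M :=
  (ModSite.sheafHomAdj (O := X.sheaf) M).rightAdjointUniq
    ((homFunAdj M).ofNatIsoLeft ((KFlatLib.tensorBiFlipIso X).app M).symm)

instance additive_homFun : (homFun M).Additive :=
  (homFunAdj M).right_adjoint_additive

end Groth.Agent.PD70
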